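import Cfsg.Agent.Lib.Spor.ThreeConnected
import Cfsg.Agent.Lib.Fusion.LinearStable

/-!
A class of 3-transpositions in which commuting members agree modulo the 2-core: each member
normalizes a Sylow 3-subgroup, and with it and the 2-core generates the group.
-/

set_option autoImplicit false

open scoped commutatorElement Pointwise

namespace Cfsg.Agent.Fischer

universe u

/-- commuting members agree modulo the 2-core -/
def CoreWidthOne {G : Type*} [Group G] (D : Set G) : Prop :=
  ∀ a ∈ D, ∀ b ∈ D, Commute a b → a * b ∈ Cfsg.pCore 2 G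

/-- two members congruent modulo a normal 2-subgroup are conjugate under it -/
theorem conj_in_normal {G : Type*} [Group G] [Finite G] {D : Set G}
    (hD : Cfsg.IsThreeTranspositionClass D) (hD2 : ∃ a ∈ D, ∃ b ∈ D, a ≠ b) {Z : Subgroup G} [Z.Normal]
    (hZ : Z ≤ Cfsg.pCore 2 G) {d v : G} (hd : d ∈ D) (hv : v ∈ D) (h : d * v ∈ Z) :
    ∃ g ∈ Z, v = g * d * g⁻¹ := by
  obtain ⟨e, he, hde⟩ := Spor.exists_braid hD hD2 hd
  have hset := hD.1
  have hV := Spor.sameV_of_mul_mem hset hd hv (hZ h)
  have hdv : Commute d v := hV.commute hd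
  have hve : ¬ Commute v e := fun hh => hde ((hV e he).2 hh)
  have hdd := Spor.mul_self_of_order_two (hset.1 d hd)
  have hee := Spor.mul_self_of_order_two (hset.1 e he)
  have hei := Spor.inv_of_order_two (hset.1 e he)
  refine ⟨e * (d * v) * e, ?_, ?_⟩
  · have := ‹Z.Normal›.conj_mem _ h e
    rwa [hei] at this
  · have hdi := Spor.inv_of_order_two (hset.1 d hd)
    have hvi := Spor.inv_of_order_two (hset.1 v hv)
    rw [mul_inv_rev, mul_inv_rev, mul_inv_rev, hei, hdi, hvi]
    symm
    calc e * (d * v) * e * d * (e * (v * d * e))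
        = e * (d * v) * (e * d * e) * (v * d * e) := by simp only [mul_assoc]
      _ = e * (d * v) * (d * e * d) * (v * d * e) := by
          rw [((Spor.commute_or_braid hset hd he).resolve_left hde).symm]
      _ = e * (d * v * d) * e * (d * v * d) * e := by simp only [mul_assoc]
      _ = e * v * e * v * e := by rw [hdv.eq, mul_assoc v d d, hdd, mul_one]
      _ = e * (v * e * v) * e := by simp only [mul_assoc]
      _ = e * (e * v * e) * e := by rw [(Spor.commute_or_braid hset hv he).resolve_left hve]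
      _ = (e * e) * v * (e * e) := by simp only [mul_assoc]
      _ = v := by rw [hee, one_mul, mul_one]

section Quotient

variable {G : Type*} [Group G] [Finite G] {D : Set G}

theorem quotient_facts (hD : Cfsg.IsThreeTranspositionClass D) (hD2 : ∃ a ∈ D, ∃ b ∈ D, a ≠ b)
    (hcw : CoreWidthOne D) (N : Subgroup G) [N.Normal] (hN : N ≤ Cfsg.pCore 2 G) :
    Cfsg.IsThreeTranspositionClass (QuotientGroup.mk' N '' D) ∧
      (∃ a ∈ QuotientGroup.mk' N '' D, ∃ b ∈ QuotientGroup.mk' N '' D, a ≠ b) ∧
      (∀ a ∈ D, ∀ b ∈ D, Commute (QuotientGroup.mk' N a) (QuotientGroup.mk' N b) →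
        a * b ∈ Cfsg.pCore 2 G) := by
  haveI : Fact (Nat.Prime 2) := ⟨Nat.prime_two⟩
  set π := QuotientGroup.mk' N with hπ
  have hπs : Function.Surjective π := QuotientGroup.mk'_surjective N
  have hne : ∀ a ∈ D, ∀ b ∈ D, ¬ Commute a b → π a ≠ π b := by
    intro a ha b hb hab he
    refine hab (Spor.commute_of_mul_mem_two hD.1 ha hb (hN ?_))
    have := (QuotientGroup.eq).1 he
    rwa [Spor.inv_of_order_two (hD.1.1 a ha)] at this
  refine ⟨⟨⟨?_, ?_⟩, ?_, ?_⟩, ?_, ?_⟩
  · rintro _ ⟨a, ha, rfl⟩
    refine orderOf_eq_prime (by rw [sq, ← map_mul, Spor.mul_self_of_order_two (hD.1.1 a ha), map_one]) ?_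
    intro h
    obtain ⟨e, he, hae⟩ := Spor.exists_braid hD hD2 ha
    obtain ⟨g, rfl⟩ := Spor.class_conj hD ha he
    exact hne a ha _ he hae (by rw [map_mul, map_mul, h]; simp)
  · rintro _ ⟨e, he, rfl⟩ _ ⟨f, hf, rfl⟩
    refine (hD.1.2 e he f hf).imp ?_ ?_ <;>
      exact fun h => by rw [← map_mul, ← map_pow, h, map_one]
  · obtain ⟨d, hd, hDd⟩ := hD.2.1
    refine ⟨π d, ⟨d, hd, rfl⟩, Set.ext fun x => ⟨?_, fun hx => ?_⟩⟩
    · rintro ⟨a, ha, rfl⟩
      rw [hDd] at ha
      exact π.map_isConj ha
    · obtain ⟨q, rfl⟩ := isConj_iff.1 hx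
      obtain ⟨g, rfl⟩ := hπs q
      exact ⟨g * d * g⁻¹, hDd ▸ isConj_iff.2 ⟨g, rfl⟩, by simp⟩
  · rw [← MonoidHom.map_closure, hD.2.2, Subgroup.map_top_of_surjective _ hπs]
  · obtain ⟨a, ha, -⟩ := id hD2
    obtain ⟨e, he, hae⟩ := Spor.exists_braid hD hD2 ha
    exact ⟨π a, ⟨a, ha, rfl⟩, π e, ⟨e, he, rfl⟩, hne a ha e he hae⟩
  · intro a ha b hb hc
    rcases hD.1.2 a ha b hb with h | h
    · refine hcw a ha b hb ?_
      rw [sq, mul_eq_one_iff_eq_inv, mul_inv_rev, Spor.inv_of_order_two (hD.1.1 a ha),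
        Spor.inv_of_order_two (hD.1.1 b hb)] at h
      exact h
    · have h2 : π ((a * b) ^ 2) = 1 := by
        rw [map_pow, map_mul]
        exact Spor.pow_two_of_commute (by rw [← map_mul, Spor.mul_self_of_order_two (hD.1.1 a ha), map_one])
          (by rw [← map_mul, Spor.mul_self_of_order_two (hD.1.1 b hb), map_one]) hc
      have h3 : π (a * b) = 1 := by
        have h1 : (a * b) ^ 3 = (a * b) ^ 2 * (a * b) := pow_succ _ _
        have := congrArg π h1
        rw [h, map_one, map_mul, h2, one_mul] at this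
        exact this.symm
      exact hN ((QuotientGroup.eq_one_iff _).1 h3)

/-- a member, the 2-core and any Sylow 3-subgroup generate -/
theorem sup_eq_top (hD : Cfsg.IsThreeTranspositionClass D) (hD2 : ∃ a ∈ D, ∃ b ∈ D, a ≠ b)
    (hcw : CoreWidthOne D) {d : G} (hd : d ∈ D) (P : Sylow 3 G) :
    Subgroup.zpowers d ⊔ (P : Subgroup G) ⊔ Cfsg.pCore 2 G = ⊤ := by
  haveI : Fact (Nat.Prime 3) := ⟨Nat.prime_three⟩
  haveI := Solv.pCore_normal (G := G) 2
  set O := Cfsg.pCore 2 G
  set π := QuotientGroup.mk' O with hπ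
  have hπs : Function.Surjective π := QuotientGroup.mk'_surjective O
  obtain ⟨hQ, -, hcomm⟩ := quotient_facts hD hD2 hcw O le_rfl
  have h1 : ∀ x ∈ π '' D, ∀ y ∈ π '' D, Commute x y → x = y := by
    rintro _ ⟨a, ha, rfl⟩ _ ⟨b, hb, rfl⟩ hc
    refine (QuotientGroup.eq).2 ?_
    rw [Spor.inv_of_order_two (hD.1.1 a ha)]
    exact hcomm a ha b hb hc
  have htop := Spor.width_one_generate (Spor.class_isGroup hQ) (Set.mem_image_of_mem π hd) h1
  haveI := Solv.pCore_normal (G := G ⧸ O) 3
  obtain ⟨R, hR⟩ := (Solv.pCore_isPGroup (G := G ⧸ O) 3).exists_le_sylow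
  have hle : Cfsg.pCore 3 (G ⧸ O) ≤ (P.mapSurjective hπs : Sylow 3 (G ⧸ O)) := by
    obtain ⟨q, hq⟩ := MulAction.exists_smul_eq (G ⧸ O) R (P.mapSurjective hπs)
    rw [← hq, Sylow.coe_subgroup_smul]
    intro x hx
    rw [Subgroup.mem_pointwise_smul_iff_inv_smul_mem]
    refine hR ?_
    rw [← map_inv, MulAut.smul_def, MulAut.conj_apply]
    exact Subgroup.Normal.conj_mem inferInstance x hx q⁻¹
  have hmap : (Subgroup.zpowers d ⊔ (P : Subgroup G)).map π = ⊤ := by
    rw [eq_top_iff, ← htop, Subgroup.map_sup, MonoidHom.map_zpowers]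
    exact sup_le_sup_left hle _
  rw [eq_top_iff]
  intro x _
  obtain ⟨y, hy, hyx⟩ := hmap.ge (Subgroup.mem_top (π x))
  rw [show x = y * (y⁻¹ * x) by group]
  exact mul_mem (Subgroup.mem_sup_left hy) (Subgroup.mem_sup_right ((QuotientGroup.eq).1 hyx))

end Quotient

/-- conjugation on a normal subgroup only depends on the coset of its centralizer -/
theorem conj_eq_of_mem {G : Type*} [Group G] {Z : Subgroup G} {x y z : G} (hz : z ∈ Z)
    (h : x⁻¹ * y ∈ Subgroup.centralizer (Z : Set G)) : y * z * y⁻¹ = x * z * x⁻¹ := by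
  have := Subgroup.mem_centralizer_iff.1 h z hz
  calc y * z * y⁻¹ = x * ((x⁻¹ * y) * z) * y⁻¹ := by group
    _ = x * (z * (x⁻¹ * y)) * y⁻¹ := by rw [this]
    _ = x * z * x⁻¹ := by group

/-- every member normalizes some Sylow 3-subgroup -/
theorem exists_invariant : ∀ (m : ℕ), ∀ {G : Type u} [Group G] [Finite G] {D : Set G},
    Nat.card G ≤ m → Cfsg.IsThreeTranspositionClass D → (∃ a ∈ D, ∃ b ∈ D, a ≠ b) → CoreWidthOne D →
      ∀ {d : G}, d ∈ D → ∃ P : Sylow 3 G, d ∈ Subgroup.normalizer ((P : Subgroup G) : Set G) := by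
  intro m
  induction m with
  | zero =>
    intro G _ _ D hm
    exact absurd hm (by have := Nat.card_pos (α := G); omega)
  | succ m ih =>
    intro G _ _ D hm hD hD2 hcw d hd
    haveI : Fact (Nat.Prime 2) := ⟨Nat.prime_two⟩
    haveI : Fact (Nat.Prime 3) := ⟨Nat.prime_three⟩
    haveI := Solv.pCore_normal (G := G) 2
    set O := Cfsg.pCore 2 G with hO
    by_cases hObot : O = ⊥
    · -- no two members commute
      haveI := Solv.pCore_normal (G := G) 3
      have h1 : ∀ a ∈ D, ∀ b ∈ D, Commute a b → a = b := fun a ha b hb hc => by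
        have h : a * b ∈ O := hcw a ha b hb hc
        rw [hObot, Subgroup.mem_bot, mul_eq_one_iff_eq_inv, Spor.inv_of_order_two (hD.1.1 b hb)] at h
        exact h
      have htop := Spor.width_one_generate (Spor.class_isGroup hD) hd h1
      obtain ⟨P, hP⟩ := (Solv.pCore_isPGroup (G := G) 3).exists_le_sylow
      refine ⟨P, ?_⟩
      have hsub : (P : Subgroup G) ≤ Cfsg.pCore 3 G := by
        intro x hx
        rcases Spor.mem_or_mul_mem (Spor.mul_self_of_order_two (hD.1.1 d hd)) htop x with h | h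
        · exact h
        · exfalso
          have hdP : d ∈ P := by
            have := mul_mem (hP h) (inv_mem hx)
            rwa [mul_inv_cancel_right] at this
          obtain ⟨k, hk⟩ := P.isPGroup' ⟨d, hdP⟩
          have hk' : d ^ 3 ^ k = 1 := congrArg Subtype.val hk
          have := orderOf_dvd_of_pow_eq_one hk'
          rw [hD.1.1 d hd] at this
          exact absurd (Nat.prime_two.dvd_of_dvd_pow this) (by norm_num)
      rw [show (P : Subgroup G) = Cfsg.pCore 3 G from le_antisymm hsub hP, Subgroup.normalizer_eq_top]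
      exact Subgroup.mem_top d
    -- a minimal normal subgroup inside the 2-core
    obtain ⟨Z, -, ⟨⟨hZn, hZO, hZne⟩, hZmin⟩⟩ := Finite.exists_le_minimal
      (p := fun N : Subgroup G => N.Normal ∧ N ≤ O ∧ N ≠ ⊥) (a := O) ⟨inferInstance, le_rfl, hObot⟩
    haveI := hZn
    have hmin : ∀ N : Subgroup G, N.Normal → N ≤ Z → N = ⊥ ∨ N = Z := fun N hN hle => by
      by_cases hb : N = ⊥
      · exact Or.inl hb
      · exact Or.inr (le_antisymm hle (hZmin ⟨hN, hle.trans hZO, hb⟩ hle))
    have hZ2 : IsPGroup 2 Z := (Solv.pCore_isPGroup 2).to_le hZO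
    obtain ⟨hZcomm, hZexp⟩ := Fusion.isElementaryAbelian_of_minimal hZ2 hmin
    have hzc : ∀ x ∈ Z, ∀ y ∈ Z, x * y = y * x := fun x hx y hy =>
      congrArg Subtype.val ((IsMulCommutative.is_comm (M := Z)).comm ⟨x, hx⟩ ⟨y, hy⟩)
    have hzz : ∀ x ∈ Z, x * x = 1 := fun x hx => by rw [← pow_two]; exact hZexp x hx
    have hzi : ∀ x ∈ Z, x⁻¹ = x := fun x hx => inv_eq_of_mul_eq_one_right (hzz x hx)
    set C := Subgroup.centralizer (Z : Set G) with hC
    have hOC : O ≤ C := Fusion.le_centralizer_of_minimal hZ2 hmin fun y hy => by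
      obtain ⟨j, hj⟩ := Solv.pCore_isPGroup (G := G) 2 ⟨y, hy⟩
      refine ⟨j, ?_⟩
      rw [show y ^ 2 ^ j = 1 from congrArg Subtype.val hj]
      exact one_mem _
    -- induction
    set π := QuotientGroup.mk' Z with hπ
    have hπs : Function.Surjective π := QuotientGroup.mk'_surjective Z
    obtain ⟨hQ, hQ2, hQc⟩ := quotient_facts hD hD2 hcw Z hZO
    have hQcw : CoreWidthOne (π '' D) := by
      rintro _ ⟨a, ha, rfl⟩ _ ⟨b, hb, rfl⟩ hc
      rw [← map_mul]
      haveI : (O.map π).Normal := Subgroup.Normal.map inferInstance π hπs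
      exact Solv.normal_le_pCore ((Solv.pCore_isPGroup (G := G) 2).map π)
        ⟨a * b, hQc a ha b hb hc, rfl⟩
    have hlt : Nat.card (G ⧸ Z) ≤ m := by
      have h1 := Subgroup.card_eq_card_quotient_mul_card_subgroup Z
      have h2 : 2 ≤ Nat.card Z := (Subgroup.one_lt_card_iff_ne_bot Z).2 hZne
      have h3 : 0 < Nat.card (G ⧸ Z) := Nat.card_pos
      nlinarith
    obtain ⟨Pb, hPb⟩ := ih hlt hQ hQ2 hQcw (Set.mem_image_of_mem π hd)
    obtain ⟨P, rfl⟩ := Sylow.mapSurjective_surjective hπs 3 Pb
    rw [Sylow.coe_mapSurjective] at hPb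
    set R := ((P : Subgroup G).map π).comap π with hR
    have hRmem : ∀ x, x ∈ R → ∃ z ∈ Z, ∃ p ∈ P, x = z * p := by
      intro x hx
      obtain ⟨p, hp, hpx⟩ := hx
      refine ⟨x * p⁻¹, ?_, p, hp, by group⟩
      have h := (QuotientGroup.eq).1 hpx
      have := hZn.conj_mem _ h p
      rwa [show p * (p⁻¹ * x) * p⁻¹ = x * p⁻¹ by group] at this
    have hPR : (P : Subgroup G) ≤ R := fun x hx => ⟨x, hx, rfl⟩
    have hdR : ∀ x ∈ R, d * x * d⁻¹ ∈ R := by
      intro x hx
      rw [hR, Subgroup.mem_comap, map_mul, map_mul, map_inv]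
      exact (Subgroup.mem_set_normalizer_iff.1 hPb (π x)).1 hx
    -- d moves P by an element of Z
    obtain ⟨t, htZ, htP⟩ : ∃ t ∈ Z, t * d ∈ Subgroup.normalizer ((P : Subgroup G) : Set G) := by
      have hP'R : ((MulAut.conj d • P : Sylow 3 G) : Subgroup G) ≤ R := by
        intro x hx
        rw [Sylow.pointwise_smul_def] at hx
        obtain ⟨y, hy, rfl⟩ := hx
        exact hdR y (hPR hy)
      obtain ⟨r, hr⟩ := MulAction.exists_smul_eq R ((MulAut.conj d • P : Sylow 3 G).subtype hP'R)
        (P.subtype hPR)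
      obtain ⟨z, hz, p, hp, hrzp⟩ := hRmem (r⁻¹ : R) (r⁻¹ : R).2
      refine ⟨z⁻¹, inv_mem hz, ?_⟩
      have hr' : (r : G) * d ∈ Subgroup.normalizer ((P : Subgroup G) : Set G) := by
        rw [Subgroup.mem_set_normalizer_iff]
        intro x
        have key : ∀ y : G, y ∈ (P : Subgroup G) → ((r : G) * d) * y * ((r : G) * d)⁻¹ ∈ (P : Subgroup G) := by
          intro y hy
          have hy' : d * y * d⁻¹ ∈ R := hdR y (hPR hy)
          have : r * ⟨d * y * d⁻¹, hy'⟩ * r⁻¹ ∈ ((P.subtype hPR : Sylow 3 R) : Subgroup R) := by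
            rw [← hr, Sylow.coe_subgroup_smul]
            refine ⟨⟨d * y * d⁻¹, hy'⟩, ?_, rfl⟩
            show d * y * d⁻¹ ∈ ((MulAut.conj d • P : Sylow 3 G) : Subgroup G)
            rw [Sylow.pointwise_smul_def]
            exact ⟨y, hy, rfl⟩
          have h2 : (r : G) * (d * y * d⁻¹) * (r : G)⁻¹ ∈ (P : Subgroup G) := this
          rwa [mul_inv_rev, show (r : G) * d * y * (d⁻¹ * (r : G)⁻¹) = r * (d * y * d⁻¹) * (r : G)⁻¹ by group]
        refine ⟨key x, fun h => ?_⟩
        set u := (r : G) * d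
        have hset : (fun y => u * y * u⁻¹) '' ((P : Subgroup G) : Set G) = ((P : Subgroup G) : Set G) :=
          Set.eq_of_subset_of_ncard_le (by rintro _ ⟨y, hy, rfl⟩; exact key y hy)
            (le_of_eq (Set.ncard_image_of_injective _ fun a b hab => by simpa using hab).symm) (Set.toFinite _)
        obtain ⟨y, hy, hyx⟩ := hset.ge h
        rwa [show y = x by simpa using hyx] at hy
      have hr2 : (r : G) = p⁻¹ * z⁻¹ := by
        rw [← mul_inv_rev, ← hrzp]
        simp
      rw [hr2] at hr'
      have := mul_mem (Subgroup.le_normalizer hp : p ∈ Subgroup.normalizer ((P : Subgroup G) : Set G)) hr'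
      rwa [show p * (p⁻¹ * z⁻¹ * d) = z⁻¹ * d by group] at this
    by_cases hPC : (P : Subgroup G) ≤ C
    · -- Z centralizes P
      refine ⟨P, ?_⟩
      have hzn : t ∈ Subgroup.normalizer ((P : Subgroup G) : Set G) := by
        refine Subgroup.centralizer_le_normalizer _ (Subgroup.mem_centralizer_iff.2 fun p hp => ?_)
        exact (Subgroup.mem_centralizer_iff.1 (hPC hp) t htZ).symm
      simpa using mul_mem (inv_mem hzn) htP
    -- it suffices that t is a commutator with d
    suffices hsuf : ∃ s ∈ Z, t = s * (d * s * d) by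
      obtain ⟨s, hs, hts⟩ := hsuf
      have hdd := Spor.mul_self_of_order_two (hD.1.1 d hd)
      refine ⟨MulAut.conj s • P, ?_⟩
      have hn : t * d = s * d * s⁻¹ := by
        rw [hts, hzi s hs, show s * (d * s * d) * d = s * d * s * (d * d) by simp only [mul_assoc], hdd, mul_one]
      rw [hn] at htP
      rw [Subgroup.mem_set_normalizer_iff]
      intro x
      have hmem : ∀ y : G, y ∈ ((MulAut.conj s • P : Sylow 3 G) : Subgroup G) ↔
          s * y * s ∈ (P : Subgroup G) := fun y => by
        rw [Sylow.pointwise_smul_def, Subgroup.mem_pointwise_smul_iff_inv_smul_mem, ← map_inv,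
          MulAut.smul_def, MulAut.conj_apply, inv_inv, hzi s hs]
      rw [SetLike.mem_coe, SetLike.mem_coe, hmem, hmem]
      rw [Subgroup.mem_set_normalizer_iff] at htP
      refine (htP _).trans (iff_of_eq (congrArg (fun w => w ∈ (P : Subgroup G)) ?_))
      rw [hzi s hs]
      have hss := hzz s hs
      calc s * d * s * (s * x * s) * (s * d * s)⁻¹
          = s * d * (s * s) * x * d⁻¹ * s⁻¹ := by group
        _ = s * (d * x * d⁻¹) * s := by rw [hss, hzi s hs]; group
    -- the centralizer of P in Z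
    have hdi := Spor.inv_of_order_two (hD.1.1 d hd)
    have hdd := Spor.mul_self_of_order_two (hD.1.1 d hd)
    have hNZ : ∀ z ∈ Z, z ∈ Subgroup.normalizer ((P : Subgroup G) : Set G) → ∀ p ∈ P, z * p = p * z := by
      intro z hz hzn p hp
      have h1 : z * p * z⁻¹ * p⁻¹ ∈ Z := by
        rw [show z * p * z⁻¹ * p⁻¹ = z * (p * z⁻¹ * p⁻¹) by group]
        exact mul_mem hz (hZn.conj_mem _ (inv_mem hz) p)
      have h2 : z * p * z⁻¹ * p⁻¹ ∈ (P : Subgroup G) :=
        mul_mem ((Subgroup.mem_set_normalizer_iff.1 hzn p).1 hp) (inv_mem hp)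
      have h3 : z * p * z⁻¹ * p⁻¹ = 1 := by
        obtain ⟨i, hi⟩ := hZ2 ⟨_, h1⟩
        obtain ⟨j, hj⟩ := P.isPGroup' ⟨_, h2⟩
        have hd2 := orderOf_dvd_of_pow_eq_one (congrArg Subtype.val hi : (z * p * z⁻¹ * p⁻¹) ^ 2 ^ i = 1)
        have hd3 := orderOf_dvd_of_pow_eq_one (congrArg Subtype.val hj : (z * p * z⁻¹ * p⁻¹) ^ 3 ^ j = 1)
        exact orderOf_eq_one_iff.1 (Nat.eq_one_of_dvd_coprimes
          ((Nat.Coprime.pow i j (by norm_num : Nat.Coprime 2 3))) hd2 hd3)
      exact mul_inv_eq_iff_eq_mul.1 (mul_inv_eq_one.1 h3)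
    -- a central element of order three of the action of P on Z
    obtain ⟨n, hn⟩ : ∃ n, n = t * d := ⟨_, rfl⟩
    rw [← hn] at htP
    set φ := QuotientGroup.mk' C with hφ
    have hφs : Function.Surjective φ := QuotientGroup.mk'_surjective C
    have hmapne : (P : Subgroup G).map φ ≠ ⊥ := fun h => hPC fun x hx => by
      have : φ x ∈ (⊥ : Subgroup (G ⧸ C)) := h ▸ ⟨x, hx, rfl⟩
      exact (QuotientGroup.eq_one_iff x).1 (Subgroup.mem_bot.1 this)
    set Pc := (P : Subgroup G).map φ with hPc
    have hPc3 : IsPGroup 3 Pc := P.isPGroup'.map φ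
    haveI : Nontrivial Pc := (Subgroup.nontrivial_iff_ne_bot Pc).2 hmapne
    haveI : Nontrivial (Subgroup.center Pc) := hPc3.center_nontrivial
    obtain ⟨k, hk0, hkcard⟩ :=
      (hPc3.to_subgroup (Subgroup.center Pc)).nontrivial_iff_card.1 inferInstance
    obtain ⟨⟨⟨w, hwP⟩, hwc⟩, hword⟩ :=
      exists_prime_orderOf_dvd_card' (G := Subgroup.center Pc) 3 (hkcard ▸ dvd_pow_self 3 hk0.ne')
    have hw3 : orderOf w = 3 := by
      rwa [← Subgroup.orderOf_coe, ← Subgroup.orderOf_coe] at hword
    have hwcomm : ∀ y ∈ Pc, y * w = w * y := fun y hy =>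
      congrArg Subtype.val (Subgroup.mem_center_iff.1 hwc ⟨y, hy⟩)
    have hnPc : ∀ y ∈ Pc, φ n * y * (φ n)⁻¹ ∈ Pc := by
      rintro _ ⟨y, hy, rfl⟩
      exact ⟨n * y * n⁻¹, (Subgroup.mem_set_normalizer_iff.1 htP y).1 hy, by simp⟩
    -- t * d is an involution
    have hZP : ∀ z ∈ Z, (∀ p ∈ P, z * p = p * z) → z = 1 := by
      intro z hz hzp
      set W := Z ⊓ Subgroup.centralizer ((P : Subgroup G) : Set G) with hW
      have hWn : W.Normal := by
        rw [← Subgroup.normalizer_eq_top_iff, eq_top_iff, ← sup_eq_top hD hD2 hcw hd P]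
        have hnw : Subgroup.normalizer ((P : Subgroup G) : Set G) ⊓ ⊤ ≤ Subgroup.normalizer (W : Set G) := by
          intro x hx
          rw [Subgroup.mem_set_normalizer_iff]
          have hstep : ∀ x ∈ Subgroup.normalizer ((P : Subgroup G) : Set G), ∀ a ∈ W, x * a * x⁻¹ ∈ W := by
            intro x hx a ha
            refine ⟨hZn.conj_mem a ha.1 x, Subgroup.mem_centralizer_iff.2 fun p hp => ?_⟩
            have hp' : x⁻¹ * p * x ∈ (P : Subgroup G) := by
              refine (Subgroup.mem_set_normalizer_iff.1 hx _).2 ?_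
              rw [show x * (x⁻¹ * p * x) * x⁻¹ = p by group]
              exact hp
            have := Subgroup.mem_centralizer_iff.1 ha.2 _ hp'
            calc p * (x * a * x⁻¹) = x * ((x⁻¹ * p * x) * a) * x⁻¹ := by group
              _ = x * (a * (x⁻¹ * p * x)) * x⁻¹ := by rw [this]
              _ = x * a * x⁻¹ * p := by group
          refine fun a => ⟨hstep x hx.1 a, fun ha => ?_⟩
          have := hstep x⁻¹ (inv_mem hx.1) _ ha
          rwa [show x⁻¹ * (x * a * x⁻¹) * x⁻¹⁻¹ = a by group] at this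
        rw [inf_top_eq] at hnw
        have hOW : O ≤ Subgroup.normalizer (W : Set G) := hOC.trans
          ((Subgroup.centralizer_le (show (W : Set G) ⊆ Z from fun a ha => ha.1)).trans
            (Subgroup.centralizer_le_normalizer _))
        refine sup_le (sup_le (Subgroup.zpowers_le.2 ?_) (Subgroup.le_normalizer.trans hnw)) hOW
        have h1 : t ∈ Subgroup.normalizer (W : Set G) :=
          hOW (hZO htZ)
        simpa [hn] using mul_mem (inv_mem h1) (hnw htP)
      rcases hmin W hWn inf_le_left with h | h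
      · exact Subgroup.mem_bot.1 (h ▸ ⟨hz, Subgroup.mem_centralizer_iff.2 fun p hp => (hzp p hp).symm⟩)
      · exfalso
        refine hPC fun p hp => Subgroup.mem_centralizer_iff.2 fun a ha => ?_
        exact (Subgroup.mem_centralizer_iff.1 (h.ge ha).2 p hp).symm
    have hnn : n * n = 1 := by
      have hmem : n * n ∈ Z := by
        rw [hn, show t * d * (t * d) = t * (d * t * d) by simp only [mul_assoc]]
        refine mul_mem htZ ?_
        have := hZn.conj_mem t htZ d
        rwa [hdi] at this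
      exact hZP _ hmem (hNZ _ hmem (mul_mem htP htP))
    have hni : n⁻¹ = n := inv_eq_of_mul_eq_one_right hnn
    have htd : d * t * d = t := by
      have h : t * (d * t * d) = 1 := by rw [← hnn, hn]; simp only [mul_assoc]
      rw [← inv_eq_of_mul_eq_one_right h, hzi t htZ]
    have hntn : n * t * n = t := by
      calc n * t * n = t * (d * t * t * d) := by rw [hn]; simp only [mul_assoc]
        _ = t := by rw [mul_assoc d t t, hzz t htZ, mul_one, hdd, mul_one]
    -- conjugation by n and by d agree on Z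
    have hdn : ∀ z ∈ Z, d * z * d = n * z * n := by
      intro z hz
      rw [hn]
      have hdz : d * z * d ∈ Z := by
        have := hZn.conj_mem z hz d
        rwa [hdi] at this
      have hdt' : d * t = t * d := by
        calc d * t = d * t * d * d := by rw [mul_assoc, hdd, mul_one]
          _ = t * d := by rw [htd]
      calc d * z * d = (d * z * d) * (t * t) := by rw [hzz t htZ, mul_one]
        _ = t * (d * z * d) * t := by rw [← mul_assoc, hzc _ hdz t htZ]
        _ = t * d * z * (d * t) := by simp only [mul_assoc]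
        _ = t * d * z * (t * d) := by rw [hdt']
    -- an element of P of order three on Z fixed or inverted by n
    obtain ⟨c, hcP, hc3, hc1, hcn⟩ : ∃ c ∈ P, φ (c * c * c) = 1 ∧ φ c ≠ 1 ∧
        ((∀ y ∈ Pc, y * φ c = φ c * y) ∧ (n * c * n = c ∨ φ (n * c * n) = φ (c * c))) := by
      have hw1 : w ≠ 1 := fun h => by rw [h, orderOf_one] at hw3; norm_num at hw3
      have hwww : w * w * w = 1 := by
        have := pow_orderOf_eq_one w
        rwa [hw3, pow_succ, pow_two] at this
      have hN : φ n * φ n = 1 := by rw [← map_mul, hnn, map_one]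
      have hwn : φ n * w * φ n ∈ Pc := by
        have := hnPc w hwP
        rwa [← map_inv, hni] at this
      have hwnc : ∀ y ∈ Pc, y * (φ n * w * φ n) = (φ n * w * φ n) * y := by
        intro y hy
        have h := hwcomm _ (hnPc y hy)
        rw [← map_inv, hni] at h
        calc y * (φ n * w * φ n) = (φ n * φ n) * y * (φ n * w * φ n) := by rw [hN, one_mul]
          _ = φ n * ((φ n * y * φ n) * w) * φ n := by simp only [mul_assoc]
          _ = φ n * (w * (φ n * y * φ n)) * φ n := by rw [h]
          _ = φ n * w * φ n * y * (φ n * φ n) := by simp only [mul_assoc]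
          _ = φ n * w * φ n * y := by rw [hN, mul_one]
      by_cases hinv : φ n * w * φ n = w * w
      · obtain ⟨c, hc, hcw⟩ := id hwP
        exact ⟨c, hc, by rw [map_mul, map_mul, hcw, hwww], hcw ▸ hw1, fun y hy => hcw ▸ hwcomm y hy,
          Or.inr (by rw [map_mul, map_mul, map_mul, hcw]; exact hinv)⟩
      · -- the product is fixed
        set v := w * (φ n * w * φ n) with hv
        have hcv : φ n * w * φ n * w = w * (φ n * w * φ n) := hwcomm _ hwn
        have hv1 : v ≠ 1 := fun h => hinv (by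
          calc φ n * w * φ n = (w * w * w) * (φ n * w * φ n) := by rw [hwww, one_mul]
            _ = w * w * v := by rw [hv]; simp only [mul_assoc]
            _ = w * w := by rw [h, mul_one])
        have hvfix : φ n * v * φ n = v := by
          rw [hv]
          calc φ n * (w * (φ n * w * φ n)) * φ n
              = φ n * w * φ n * (w * (φ n * φ n)) := by simp only [mul_assoc]
            _ = w * (φ n * w * φ n) := by rw [hN, mul_one, hcv]
        have hv3 : v * v * v = 1 := by
          have hcc : Commute w (φ n * w * φ n) := hcv.symm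
          have e : v ^ 3 = 1 := by
            have hb : (φ n * w * φ n) ^ 3 = 1 := by
              have := map_pow (MulAut.conj (φ n)) w 3
              rw [MulAut.conj_apply, MulAut.conj_apply, inv_eq_of_mul_eq_one_right hN] at this
              rw [← this, ← hw3, pow_orderOf_eq_one, mul_one, hN]
            rw [hv, hcc.mul_pow, hb, mul_one, ← hw3, pow_orderOf_eq_one]
          rw [← e]; simp [pow_succ, mul_assoc]
        obtain ⟨c0, hc0, hc0v⟩ := (show v ∈ Pc from mul_mem hwP hwn)
        set K := n * c0 * n with hKd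
        have hKP : K ∈ P := by
          have := (Subgroup.mem_set_normalizer_iff.1 htP c0).1 hc0
          rwa [hni] at this
        set κ := c0⁻¹ * K with hκ
        have hκP : κ ∈ P := mul_mem (inv_mem hc0) hKP
        have hκC : φ κ = 1 := by
          rw [hκ, hKd, map_mul, map_inv, map_mul, map_mul, hc0v, hvfix, inv_mul_cancel]
        obtain ⟨i, hi⟩ := P.isPGroup' ⟨κ, hκP⟩
        have hi' : κ ^ 3 ^ i = 1 := congrArg Subtype.val hi
        obtain ⟨q, hq⟩ := (Odd.pow (show Odd 3 by decide) : Odd (3 ^ i))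
        have hnκ : n * κ * n = κ⁻¹ := by
          rw [hκ, hKd, mul_inv_rev, mul_inv_rev, mul_inv_rev, inv_inv, hni]
          calc n * (c0⁻¹ * (n * c0 * n)) * n = n * c0⁻¹ * n * c0 * (n * n) := by simp only [mul_assoc]
            _ = n * (c0⁻¹ * n) * c0 := by rw [hnn, mul_one]; simp only [mul_assoc]
        refine ⟨c0 * κ ^ (q + 1), mul_mem hc0 (pow_mem hκP _), ?_, ?_, fun y hy => ?_, Or.inl ?_⟩
        · simp [hκC, hc0v, hv3]
        · simp [hκC, hc0v, hv1]
        · simp only [map_mul, map_pow, hκC, one_pow, mul_one, hc0v]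
          rw [hv, ← mul_assoc, hwcomm y hy, mul_assoc, hwnc y hy, ← mul_assoc]
        · have hpow : n * κ ^ (q + 1) * n = κ⁻¹ ^ (q + 1) := by
            have := map_pow (MulAut.conj n) κ (q + 1)
            rw [MulAut.conj_apply, MulAut.conj_apply, hni, hnκ] at this
            exact this
          calc n * (c0 * κ ^ (q + 1)) * n = n * c0 * (n * n) * (κ ^ (q + 1) * n) := by
                rw [hnn, mul_one]; simp only [mul_assoc]
            _ = K * (n * κ ^ (q + 1) * n) := by rw [hKd]; simp only [mul_assoc]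
            _ = c0 * (κ * κ⁻¹ ^ (q + 1)) := by rw [hpow, hκ]; group
            _ = c0 * κ ^ (q + 1) := by
              congr 1
              rw [inv_pow, mul_inv_eq_iff_eq_mul, ← pow_add,
                show q + 1 + (q + 1) = (2 * q + 1) + 1 by omega, pow_succ, ← hq, hi', one_mul]
    obtain ⟨hccomm, hcn⟩ := hcn
    -- c fixes no non-trivial element of Z
    have hZc : ∀ z ∈ Z, c * z * c⁻¹ = z → z = 1 := by
      intro z hz hzc'
      set W := Z ⊓ Subgroup.centralizer ({c} : Set G) with hW
      have hWmem : ∀ a ∈ Z, c * a * c⁻¹ = a → a ∈ W := fun a ha h =>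
        ⟨ha, Subgroup.mem_centralizer_singleton_iff.2 (mul_inv_eq_iff_eq_mul.1 h).symm⟩
      have hWfix : ∀ a ∈ W, c * a * c⁻¹ = a := fun a ha => by
        rw [← Subgroup.mem_centralizer_singleton_iff.1 ha.2, mul_inv_cancel_right]
      have hstep : ∀ x : G, (φ (c * x) = φ (x * c) ∨ φ (c * x) = φ (x * (c * c))) →
          ∀ a ∈ W, x * a * x⁻¹ ∈ W := by
        intro x hx a ha
        have haZ : a ∈ Z := ha.1
        refine hWmem _ (hZn.conj_mem a haZ x) ?_
        have h2 : c * (x * a * x⁻¹) * c⁻¹ = (c * x) * a * (c * x)⁻¹ := by group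
        rw [h2]
        rcases hx with h | h
        · rw [conj_eq_of_mem haZ ((QuotientGroup.eq).1 h.symm)]
          calc x * c * a * (x * c)⁻¹ = x * (c * a * c⁻¹) * x⁻¹ := by group
            _ = x * a * x⁻¹ := by rw [hWfix a ha]
        · rw [conj_eq_of_mem haZ ((QuotientGroup.eq).1 h.symm)]
          calc x * (c * c) * a * (x * (c * c))⁻¹ = x * (c * (c * a * c⁻¹) * c⁻¹) * x⁻¹ := by group
            _ = x * a * x⁻¹ := by rw [hWfix a ha, hWfix a ha]
      let Nw : Subgroup G :=
        { carrier := {x | (fun a => x * a * x⁻¹) '' (W : Set G) = W}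
          one_mem' := by simp
          mul_mem' := fun {x y} hx hy => by
            show (fun a => x * y * a * (x * y)⁻¹) '' (W : Set G) = W
            conv_rhs => rw [← show (fun a => x * a * x⁻¹) '' (W : Set G) = W from hx,
              ← show (fun a => y * a * y⁻¹) '' (W : Set G) = W from hy, Set.image_image]
            exact Set.image_congr fun a _ => by group
          inv_mem' := fun {x} hx => by
            show (fun a => x⁻¹ * a * x⁻¹⁻¹) '' (W : Set G) = W
            conv_lhs => rw [← show (fun a => x * a * x⁻¹) '' (W : Set G) = W from hx, Set.image_image]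
            simp [mul_assoc] }
      have hNw : ∀ x, (∀ a ∈ W, x * a * x⁻¹ ∈ W) → x ∈ Nw := fun x hx =>
        Set.eq_of_subset_of_ncard_le (by rintro _ ⟨a, ha, rfl⟩; exact hx a ha)
          (le_of_eq (Set.ncard_image_of_injective _ fun a b hab => by simpa using hab).symm) (Set.toFinite _)
      have hPN : (P : Subgroup G) ≤ Nw := fun p hp =>
        hNw p (hstep p (Or.inl (by rw [map_mul, map_mul]; exact (hccomm _ ⟨p, hp, rfl⟩).symm)))
      have hON : O ≤ Nw := fun o ho => hNw o fun a ha => by
        rw [← Subgroup.mem_centralizer_iff.1 (hOC ho) a ha.1, mul_inv_cancel_right]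
        exact ha
      have hnN : n ∈ Nw := hNw n (hstep n (by
        rcases hcn with h | h
        · refine Or.inl (congrArg φ ?_)
          calc c * n = n * c * n * n := by rw [h]
            _ = n * c := by rw [mul_assoc, hnn, mul_one]
        · refine Or.inr ?_
          have hN : φ n * φ n = 1 := by rw [← map_mul, hnn, map_one]
          rw [map_mul, map_mul, map_mul] at h
          calc φ (c * n) = (φ n * φ n) * φ c * φ n := by rw [hN, one_mul, map_mul]
            _ = φ n * (φ n * φ c * φ n) := by simp only [mul_assoc]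
            _ = φ (n * (c * c)) := by rw [h, map_mul, map_mul]))
      have hdN : d ∈ Nw := by
        simpa [hn] using mul_mem (inv_mem (hON (hZO htZ))) hnN
      have hWn : W.Normal := ⟨fun a ha g => by
        have hg : g ∈ Nw := by
          have := sup_eq_top hD hD2 hcw hd P
          exact (sup_le (sup_le (Subgroup.zpowers_le.2 hdN) hPN) hON : _ ≤ Nw) (this ▸ Subgroup.mem_top g)
        exact (show (fun a => g * a * g⁻¹) '' (W : Set G) = W from hg).le ⟨a, ha, rfl⟩⟩
      rcases hmin W hWn inf_le_left with h | h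
      · exact Subgroup.mem_bot.1 (h ▸ hWmem z hz hzc')
      · exfalso
        refine hc1 ((QuotientGroup.eq_one_iff c).2 (Subgroup.mem_centralizer_iff.2 fun a ha => ?_))
        exact (Subgroup.mem_centralizer_singleton_iff.1 (h.ge ha).2)
    -- the norm of c vanishes on Z
    have hc3C : c * c * c ∈ C := (QuotientGroup.eq_one_iff _).1 hc3
    have hcube : ∀ z ∈ Z, c * (c * (c * z * c⁻¹) * c⁻¹) * c⁻¹ = z := fun z hz => by
      calc c * (c * (c * z * c⁻¹) * c⁻¹) * c⁻¹ = (c * c * c) * z * (c * c * c)⁻¹ := by group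
        _ = z := by rw [← Subgroup.mem_centralizer_iff.1 hc3C z hz, mul_inv_cancel_right]
    have hconjZ : ∀ z ∈ Z, c * z * c⁻¹ ∈ Z := fun z hz => hZn.conj_mem z hz c
    have hnorm : ∀ z ∈ Z, z * (c * z * c⁻¹) * (c * (c * z * c⁻¹) * c⁻¹) = 1 := by
      intro z hz
      refine hZc _ (mul_mem (mul_mem hz (hconjZ z hz)) (hconjZ _ (hconjZ z hz))) ?_
      have h2 := hcube z hz
      set u := c * z * c⁻¹ with hu
      set u' := c * u * c⁻¹ with hu'
      calc c * (z * u * u') * c⁻¹ = (c * z * c⁻¹) * (c * u * c⁻¹) * (c * u' * c⁻¹) := by group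
        _ = u * u' * z := by rw [← hu, ← hu', h2]
        _ = z * u * u' := by rw [← hzc z hz _ (mul_mem (hconjZ z hz) (hconjZ _ (hconjZ z hz))), ← mul_assoc]
    rcases hcn with hfix | hinv
    · -- c commutes with n
      set u := c * t * c⁻¹ with hu
      have huZ : u ∈ Z := hconjZ t htZ
      have hdt : d = t * n := by rw [hn, ← mul_assoc, hzz t htZ, one_mul]
      have hcnc : c * n * c⁻¹ = n := by
        have : c * n = n * c := by
          calc c * n = n * c * n * n := by rw [hfix]
            _ = n * c := by rw [mul_assoc, hnn, mul_one]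
        rw [this, mul_inv_cancel_right]
      have hd' : c * d * c⁻¹ = u * n := by
        rw [hdt, hu]
        calc c * (t * n) * c⁻¹ = c * t * c⁻¹ * (c * n * c⁻¹) := by group
          _ = c * t * c⁻¹ * n := by rw [hcnc]
      have hnun : n * u * n = u := by
        rw [hu]
        calc n * (c * t * c⁻¹) * n = (n * c * n) * (n * t * n) * (n * c * n)⁻¹ := by
              rw [mul_inv_rev, mul_inv_rev, hni]
              simp only [mul_assoc]
              rw [← mul_assoc n n, hnn, one_mul, ← mul_assoc n n, hnn, one_mul]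
          _ = c * t * c⁻¹ := by rw [hfix, hntn]
      have hmem : d * (c * d * c⁻¹) ∈ Z := by
        rw [hd', hdt, show t * n * (u * n) = t * (n * u * n) by simp only [mul_assoc], hnun]
        exact mul_mem htZ huZ
      obtain ⟨g, hg, hgd⟩ := conj_in_normal hD hD2 hZO hd ((Spor.class_isGroup hD).2.1 c d hd) hmem
      have hkey : u * t = g * (d * g * d) := by
        calc u * t = u * n * d := by rw [hn]; simp only [mul_assoc]; rw [hdd, mul_one]
          _ = g * (d * g * d) := by rw [← hd', hgd, hzi g hg]; simp only [mul_assoc]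
      set s := c * g * c⁻¹ with hs
      refine ⟨s, hconjZ g hg, ?_⟩
      have hlhs : c * (u * t) * c⁻¹ = t := by
        have h := hnorm t htZ
        rw [← hu] at h
        calc c * (u * t) * c⁻¹ = (c * u * c⁻¹) * (c * t * c⁻¹) := by group
          _ = u * (c * u * c⁻¹) := by rw [← hu, hzc _ (hconjZ u huZ) u huZ]
          _ = t⁻¹ * (t * u * (c * u * c⁻¹)) := by group
          _ = t := by rw [h, mul_one, hzi t htZ]
      conv_lhs => rw [← hlhs, hkey]
      rw [hs, hdn g hg, hdn _ (hconjZ g hg)]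
      calc c * (g * (n * g * n)) * c⁻¹ = c * g * c⁻¹ * ((c * n * c⁻¹) * (c * g * c⁻¹) * (c * n * c⁻¹)) := by group
        _ = c * g * c⁻¹ * (n * (c * g * c⁻¹) * n) := by rw [hcnc]
    · -- n inverts c on Z
      set s := c * t * c⁻¹ with hs
      refine ⟨s, hconjZ t htZ, ?_⟩
      have hx : (c * c)⁻¹ * (n * c * n) ∈ C := (QuotientGroup.eq).1 hinv.symm
      have h1 : d * s * d = c * (c * t * c⁻¹) * c⁻¹ := by
        rw [hdn s (hconjZ t htZ), hs]
        calc n * (c * t * c⁻¹) * n = (n * c * n) * (n * t * n) * (n * c * n)⁻¹ := by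
              rw [mul_inv_rev, mul_inv_rev, hni]
              simp only [mul_assoc]
              rw [← mul_assoc n n, hnn, one_mul, ← mul_assoc n n, hnn, one_mul]
          _ = (c * c) * t * (c * c)⁻¹ := by rw [hntn, conj_eq_of_mem htZ hx]
          _ = c * (c * t * c⁻¹) * c⁻¹ := by group
      rw [h1]
      calc t = t * (t * s * (c * s * c⁻¹)) := by rw [hs, hnorm t htZ, mul_one]
        _ = (t * t) * (s * (c * s * c⁻¹)) := by simp only [mul_assoc]
        _ = s * (c * s * c⁻¹) := by rw [hzz t htZ, one_mul]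

end Cfsg.Agent.Fischer
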