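import Mathlib

/-!
Strongly regular graphs without triangles whose degree and second parameter are powers of three.
-/

set_option autoImplicit false

namespace Cfsg.Agent.Fischer.TriangleFree

open Matrix

variable {V : Type*} [Fintype V] [DecidableEq V]

/-- the discriminant is a square -/
theorem disc_square (A J : Matrix V V ℝ) (k μ : ℕ) (hk : 3 ≤ k) (hμ : 1 ≤ μ) (hμk : μ ≤ k)
    (hJ : ∀ i j, J i j = 1) (hdiag : ∀ i, A i i = 0) (hrow : A * J = (k : ℝ) • J) (hcol : J * A = (k : ℝ) • J)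
    (hsq : A * A = ((k : ℝ) - μ) • (1 : Matrix V V ℝ) - (μ : ℝ) • A + (μ : ℝ) • J) (hV : Nonempty V) :
    IsSquare (μ * μ + 4 * (k - μ)) := by
  obtain ⟨N, hN⟩ : ∃ N : ℕ, N = Fintype.card V := ⟨_, rfl⟩
  have hN0 : (N : ℝ) ≠ 0 := by
    rw [hN]; exact_mod_cast Fintype.card_ne_zero
  have hJJ : J * J = (N : ℝ) • J := by
    ext i j
    simp [Matrix.mul_apply, hJ, hN]
  have hcount : (k : ℝ) * k = (k : ℝ) - μ - μ * k + μ * N := by
    have e := congrArg (fun M => M * J) hsq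
    simp only [Matrix.mul_assoc, hrow, mul_smul_comm, sub_mul, add_mul, smul_mul_assoc, one_mul, hJJ,
      smul_smul] at e
    obtain ⟨i⟩ := hV
    have := congrFun (congrFun e i) i
    simp [hJ] at this
    linarith
  obtain ⟨c, hc⟩ : ∃ c : ℝ, c = (2 * k + μ) / N := ⟨_, rfl⟩
  have hcN : c * N = 2 * k + μ := by rw [hc, div_mul_cancel₀ _ hN0]
  set E : Matrix V V ℝ := 1 - (1 / N : ℝ) • J with hE
  set M : Matrix V V ℝ := (2 : ℝ) • A + (μ : ℝ) • (1 : Matrix V V ℝ) - c • J with hM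
  have hEE : E * E = E := by
    simp only [hE, sub_mul, mul_sub, one_mul, mul_one, smul_mul_assoc, mul_smul_comm, hJJ, smul_smul,
      smul_sub]
    match_scalars <;> field_simp
    all_goals ring
  have hME : M * E = M := by
    simp only [hE, hM, sub_mul, add_mul, mul_sub, mul_one, smul_mul_assoc, mul_smul_comm, one_mul,
      hrow, hJJ, smul_smul, smul_sub, smul_add]
    match_scalars <;> field_simp
    all_goals linarith
  have hEM : E * M = M := by
    simp only [hE, hM, sub_mul, mul_add, mul_sub, mul_one, smul_mul_assoc, mul_smul_comm, one_mul,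
      hcol, hJJ, smul_smul, smul_sub, smul_add]
    match_scalars <;> field_simp
    all_goals linarith
  obtain ⟨t, ht⟩ : ∃ t : ℝ, t = μ * μ + 4 * (k - μ) := ⟨_, rfl⟩
  have hMM : M * M = t • E := by
    simp only [hE, hM, sub_mul, add_mul, mul_add, mul_sub, mul_one, smul_mul_assoc, mul_smul_comm, one_mul,
      hrow, hcol, hJJ, hsq, smul_smul, smul_sub, smul_add, ht, hc]
    match_scalars <;> field_simp
    all_goals first | ring1 | linear_combination (-4 : ℝ) * hcount | linear_combination (4 : ℝ) * hcount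
  by_contra hns
  have htn : t = ((μ * μ + 4 * (k - μ) : ℕ) : ℝ) := by
    rw [ht]; push_cast [Nat.cast_sub hμk]; ring
  obtain ⟨s, hs⟩ : ∃ s : ℝ, s = Real.sqrt t := ⟨_, rfl⟩
  have hirr : Irrational s := by
    rw [hs, htn]
    exact irrational_sqrt_natCast_iff.2 hns
  have ht0 : 0 ≤ t := htn ▸ Nat.cast_nonneg _
  have hs2 : s * s = t := by rw [hs]; exact Real.mul_self_sqrt ht0
  have hs0 : s ≠ 0 := hirr.ne_zero
  set P : Matrix V V ℝ := (1 / 2 : ℝ) • (E + s⁻¹ • M) with hP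
  have hPP : IsIdempotentElem P := by
    show P * P = P
    simp only [hP, smul_mul_assoc, mul_smul_comm, add_mul, mul_add, hEE, hEM, hME, hMM, smul_smul, smul_add]
    match_scalars <;> field_simp
    all_goals nlinarith [hs2]
  have htrE : E.trace = N - 1 := by
    simp [hE, Matrix.trace, hJ, ← hN, mul_sub, hN0]
  have htrM : M.trace = μ * N - (2 * k + μ) := by
    simp [hM, Matrix.trace, hJ, hdiag, ← hN]
    linarith
  have hidem : IsIdempotentElem (Matrix.toLin' P) := by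
    show Matrix.toLin' P * Matrix.toLin' P = Matrix.toLin' P
    rw [Module.End.mul_eq_comp, ← Matrix.toLin'_mul, hPP.eq]
  have htr := (LinearMap.IsIdempotentElem.isProj_range _ hidem).trace
  rw [Matrix.trace_toLin'_eq] at htr
  set r := Module.finrank ℝ (LinearMap.range (Matrix.toLin' P))
  have hr : ((N : ℝ) - 1) + (μ * N - (2 * k + μ)) / s = 2 * r := by
    rw [← htr, hP, Matrix.trace_smul, Matrix.trace_add, Matrix.trace_smul, htrE, htrM, smul_eq_mul, smul_eq_mul]
    ring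
  have hzero : (μ : ℝ) * N - (2 * k + μ) = 0 := by
    by_contra hne
    have e : (μ : ℝ) * N - (2 * k + μ) = (2 * r - (N - 1)) * s := by
      rw [← hr]; field_simp; ring
    refine hirr ⟨((μ : ℚ) * N - (2 * k + μ)) / (2 * r - (N - 1)), ?_⟩
    push_cast
    have hd : (2 * (r : ℝ) - (N - 1)) ≠ 0 := fun e0 => hne (by rw [e, e0, zero_mul])
    rw [div_eq_iff hd, e, mul_comm]
  have h1 : k * k + μ * k = 3 * k := by
    have : (k : ℝ) * k + μ * k = 3 * k := by linarith
    exact_mod_cast this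
  nlinarith

/-- degree three -/
theorem eq_one {j m : ℕ} (hjm : j < m) (h : IsSquare (3 ^ j * 3 ^ j + 4 * (3 ^ m - 3 ^ j))) : m = 1 := by
  obtain ⟨s, hs⟩ := h
  have h2 : ∀ u : ℕ, (u * u) % 3 ≠ 2 := fun u => by
    rw [Nat.mul_mod]
    have := Nat.mod_lt u (by norm_num : 3 > 0)
    interval_cases (u % 3) <;> norm_num
  rcases Nat.eq_zero_or_pos j with rfl | hj
  · by_contra hm
    obtain ⟨m, rfl⟩ : ∃ r, m = r + 2 := ⟨m - 2, by omega⟩
    rw [pow_zero] at hs
    have hp : 3 ^ (m + 2) = 9 * 3 ^ m := by ring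
    have hpos : 1 ≤ 3 ^ m := Nat.one_le_pow _ _ (by norm_num)
    rw [hp] at hs
    have h3 : (s * s) % 9 = 6 := by omega
    have := Nat.mod_lt s (by norm_num : 9 > 0)
    rw [Nat.mul_mod] at h3
    interval_cases (s % 9) <;> norm_num at h3
  exfalso
  obtain ⟨r, hr⟩ : ∃ r, m = j + (r + 1) := ⟨m - j - 1, by omega⟩
  obtain ⟨i, hi⟩ : ∃ i, 3 ^ j = 3 * i := ⟨3 ^ (j - 1), by rw [← pow_succ']; congr 1; omega⟩
  obtain ⟨b, hb⟩ : ∃ b, b = 12 * 3 ^ r + 3 * i - 4 := ⟨_, rfl⟩
  have hpos : 1 ≤ 3 ^ r := Nat.one_le_pow _ _ (by norm_num)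
  have hb3 : b % 3 = 2 := by omega
  have hsb : s * s = 3 ^ j * b := by
    rw [← hs, hb, hr, pow_add, pow_succ, ← hi]
    have h4 : 4 ≤ 12 * 3 ^ r + 3 ^ j := by omega
    have h5 : 1 ≤ 3 ^ r * 3 := by omega
    zify [h4, Nat.le_mul_of_pos_right (3 ^ j) h5]
    ring
  rcases Nat.even_or_odd j with ⟨u, hu⟩ | ⟨u, hu⟩
  · obtain ⟨v, hv⟩ : 3 ^ u ∣ s := (Nat.pow_dvd_pow_iff two_ne_zero).1 ⟨b, by rw [sq, hsb, hu]; ring⟩
    refine h2 v ?_
    have : v * v = b := by
      apply Nat.eq_of_mul_eq_mul_left (Nat.pow_pos (n := j) (by norm_num : 0 < 3))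
      rw [← hsb, hv, hu]; ring
    rw [this, hb3]
  · obtain ⟨v, hv⟩ : 3 ^ u ∣ s := (Nat.pow_dvd_pow_iff two_ne_zero).1 ⟨3 * b, by rw [sq, hsb, hu]; ring⟩
    have h3 : v * v = 3 * b := by
      apply Nat.eq_of_mul_eq_mul_left (Nat.pow_pos (n := 2 * u) (by norm_num : 0 < 3))
      calc 3 ^ (2 * u) * (v * v) = s * s := by rw [hv]; ring
        _ = _ := by rw [hsb, hu]; ring
    obtain ⟨w, hw⟩ : 3 ∣ v := by
      have : 3 ∣ v * v := ⟨b, h3⟩
      exact (Nat.prime_three.dvd_mul.1 this).elim id id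
    rw [hw] at h3
    have : b = 3 * (w * w) := by
      have : 3 * b = 3 * (3 * (w * w)) := by rw [← h3]; ring
      omega
    omega

end Cfsg.Agent.Fischer.TriangleFree
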