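import Cfsg.Agent.Lib.Fischer.Transitive
import Cfsg.Agent.Lib.Fischer.TriangleFree
import Cfsg.Agent.Lib.Spor.ThreeWidth
import Cfsg.Agent.Lib.Spor.ThreeString
import Cfsg.Agent.Lib.Spor.M22UPairGen
import Cfsg.Agent.Lib.Classical.ThreeTransCubic
import Cfsg.Prelude.Def_CaseTheorems

/-!
Fischer 3-transposition groups in which two neighbours of a member have the same other neighbours among the
neighbours of that member: the symmetric group of degree five.
-/

set_option autoImplicit false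
set_option linter.unusedSectionVars false

namespace Cfsg.Agent.Fischer.Twins

variable {G : Type*} [Group G] {D : Set G}

/-- the common neighbours -/
def two (D : Set G) (a e : G) : Set G := nbr D a ∩ nbr D e

/-- two neighbours of `a` with the same other neighbours among those of `a` -/
def Cl (D : Set G) (a e f : G) : Prop := e ∈ nbr D a ∧ f ∈ nbr D a ∧ two D a e = two D a f

/-- all twins of `t` with respect to `a` commute with `x` -/
def Full (D : Set G) (a x t : G) : Prop := ∀ t', Cl D a t t' → t' ∈ two D a x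

theorem two_comm (a e : G) : two D a e = two D e a := Set.inter_comm _ _

theorem nbr_swap {a e : G} (ha : a ∈ D) (he : e ∈ nbr D a) : a ∈ nbr D e := ⟨ha, he.2.1.symm, he.2.2.symm⟩

theorem Cl.symm {a e f : G} (h : Cl D a e f) : Cl D a f e := ⟨h.2.1, h.1, h.2.2.symm⟩

theorem Cl.trans {a e f g : G} (h : Cl D a e f) (h' : Cl D a f g) : Cl D a e g :=
  ⟨h.1, h'.2.1, h.2.2.trans h'.2.2⟩

theorem Cl.not_commute {a e f : G} (h : Cl D a e f) (hne : e ≠ f) : ¬ Commute e f := fun c => by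
  have h1 : f ∈ two D a e := ⟨h.2.1, h.2.1.1, hne.symm, c⟩
  rw [h.2.2] at h1
  exact h1.2.2.1 rfl

theorem mem_two_conj (hconj : ∀ g : G, ∀ d ∈ D, g * d * g⁻¹ ∈ D) (g : G) {a e y : G} :
    g * y * g⁻¹ ∈ two D (g * a * g⁻¹) (g * e * g⁻¹) ↔ y ∈ two D a e := by
  simp only [two, Set.mem_inter_iff, nbr_conj hconj g]

theorem two_conj (hconj : ∀ g : G, ∀ d ∈ D, g * d * g⁻¹ ∈ D) (g : G) (a e : G) :
    two D (g * a * g⁻¹) (g * e * g⁻¹) = (fun y => g * y * g⁻¹) '' two D a e := by
  ext y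
  constructor
  · intro hy
    refine ⟨g⁻¹ * y * g, (mem_two_conj hconj g).1 ?_, by group⟩
    rwa [show g * (g⁻¹ * y * g) * g⁻¹ = y by group]
  · rintro ⟨y, hy, rfl⟩
    exact (mem_two_conj hconj g).2 hy

theorem Cl.conj (hconj : ∀ g : G, ∀ d ∈ D, g * d * g⁻¹ ∈ D) (g : G) {a e f : G} (h : Cl D a e f) :
    Cl D (g * a * g⁻¹) (g * e * g⁻¹) (g * f * g⁻¹) :=
  ⟨(nbr_conj hconj g).2 h.1, (nbr_conj hconj g).2 h.2.1, by rw [two_conj hconj, two_conj hconj, h.2.2]⟩

theorem Full.conj (hconj : ∀ g : G, ∀ d ∈ D, g * d * g⁻¹ ∈ D) (g : G) {a x t : G} (h : Full D a x t) :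
    Full D (g * a * g⁻¹) (g * x * g⁻¹) (g * t * g⁻¹) := by
  intro t' ht'
  have h1 := ht'.conj hconj g⁻¹
  have e : ∀ z : G, g⁻¹ * (g * z * g⁻¹) * g⁻¹⁻¹ = z := fun z => by group
  rw [e, e] at h1
  have h2 := (mem_two_conj hconj g).2 (h _ h1)
  rwa [show g * (g⁻¹ * t' * g⁻¹⁻¹) * g⁻¹ = t' by group] at h2

theorem inv_eq (h : Hyp D) {t : G} (ht : t ∈ D) : t⁻¹ = t := Spor.inv_of_order_two (h.cls.1.1 t ht)

theorem fix_of_commute {t a : G} (h : Commute t a) : t * a * t⁻¹ = a := by rw [h.eq, mul_inv_cancel_right]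

/-- transitivity on non-commuting pairs -/
theorem pair_outside [Finite G] (h : Hyp D) {a x a' z : G} (ha : a ∈ D) (hx : x ∈ D) (hax : ¬ Commute a x)
    (ha' : a' ∈ D) (hz : z ∈ D) (haz : ¬ Commute a' z) : ∃ g : G, g * a * g⁻¹ = a' ∧ g * x * g⁻¹ = z := by
  obtain ⟨g, hg⟩ := Spor.class_conj h.cls ha ha'
  have hgx : ¬ Commute a' (g * x * g⁻¹) := fun c => hax ((Commute.conj_iff g).1 (hg.symm ▸ c))
  obtain ⟨k, hk, hkx⟩ := h.outside_transitive ha' (h.conj_mem g hx) hz hgx haz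
  refine ⟨k * g, ?_, ?_⟩
  · rw [show k * g * a * (k * g)⁻¹ = k * (g * a * g⁻¹) * k⁻¹ by group, hg, fix_of_commute hk]
  · rw [show k * g * x * (k * g)⁻¹ = k * (g * x * g⁻¹) * k⁻¹ by group, hkx]

theorem two_ncard [Finite G] (h : Hyp D) {a b c d : G} (ha : a ∈ D) (hb : b ∈ nbr D a) (hc : c ∈ D)
    (hd : d ∈ nbr D c) : (two D a b).ncard = (two D c d).ncard := by
  obtain ⟨g, rfl, rfl⟩ := h.pair_transitive ha hb hc hd
  rw [two_conj (Spor.class_isGroup h.cls).2.1,
    Set.ncard_image_of_injective _ fun u v huv => by simpa using huv]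

/-- the common neighbours are closed under conjugation by one another -/
theorem two_closed (h : Hyp D) {a x t u : G} (ht : t ∈ two D a x) (hu : u ∈ two D a x) :
    t * u * t⁻¹ ∈ two D a x := by
  have := (mem_two_conj (Spor.class_isGroup h.cls).2.1 t).2 hu
  rwa [fix_of_commute ht.1.2.2.symm, fix_of_commute ht.2.2.2.symm] at this

theorem Full.conj_two (h : Hyp D) {a x t u : G} (ht : t ∈ two D a x) (hu : Full D a x u) :
    Full D a x (t * u * t⁻¹) := by
  have := hu.conj (Spor.class_isGroup h.cls).2.1 t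
  rwa [fix_of_commute ht.1.2.2.symm, fix_of_commute ht.2.2.2.symm] at this

/-- the hypothesis: every commuting pair has a twin -/
def HasTwins (D : Set G) : Prop := ∀ a ∈ D, ∀ e ∈ nbr D a, ∃ f, Cl D a e f ∧ f ≠ e

/-- some member of a set of common neighbours is not full -/
theorem exists_not_full [Finite G] (h : Hyp D) (hW : HasTwins D) {a x : G} (ha : a ∈ D) (hx : x ∈ D)
    (hax : ¬ Commute a x) : ∃ t ∈ two D a x, ¬ Full D a x t := by
  by_contra hall
  push Not at hall
  obtain ⟨p, hp, q, hq, hne, hpq⟩ := h.width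
  obtain ⟨q', hcl, hne'⟩ := hW p hp q ⟨hq, hne.symm, hpq⟩
  refine hne' (h.eq_of_nbr_subset hq hcl.2.1.1 ?_).symm
  intro z hz
  by_cases hzp : z = p
  · exact hzp ▸ nbr_swap hp hcl.2.1
  by_cases hc : Commute p z
  · have : z ∈ two D p q := ⟨⟨hz.1, hzp, hc⟩, hz⟩
    rw [hcl.2.2] at this
    exact this.2
  obtain ⟨g, hga, hgx⟩ := pair_outside h ha hx hax hp hz.1 hc
  have hmem : q ∈ two D p z := ⟨hcl.1, nbr_swap hq hz⟩
  rw [← hga, ← hgx, show q = g * (g⁻¹ * q * g) * g⁻¹ by group] at hmem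
  have h1 := (hall _ ((mem_two_conj (Spor.class_isGroup h.cls).2.1 g).1 hmem)).conj
    (Spor.class_isGroup h.cls).2.1 g
  rw [hga, hgx, show g * (g⁻¹ * q * g) * g⁻¹ = q by group] at h1
  exact nbr_swap hz.1 (h1 _ hcl).2

section Centre

variable [Finite G] (h : Hyp D) (hW : HasTwins D) {a b x : G}
variable (ha : a ∈ D) (hbx : Cl D b a x) (hax : ¬ Commute a x)
include h hW ha hbx hax

theorem b_mem (hb : b ∈ D) : b ∈ two D a x := ⟨nbr_swap hb hbx.1, nbr_swap hb hbx.2.1⟩

theorem common_le : two D a b ⊆ two D a x := fun y hy => by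
  refine ⟨hy.1, ?_⟩
  rw [two_comm, hbx.2.2] at hy
  exact hy.2

theorem common_full (hb : b ∈ D) {y : G} (hy : y ∈ two D a b) : Full D a x y := by
  intro y' hcl
  refine common_le h hW ha hbx hax ⟨hcl.2.1, ?_⟩
  have h1 : b ∈ two D a y := ⟨nbr_swap hb hbx.1, nbr_swap hb hy.2⟩
  rw [hcl.2.2] at h1
  exact nbr_swap hcl.2.1.1 h1.2

/-- members that are no twins of the centre are full -/
theorem full_of_not_twin (hb : b ∈ D) {t : G} (ht : t ∈ two D a x) (hn : ¬ Cl D a b t) : Full D a x t := by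
  by_cases htb : t ∈ two D a b
  · exact common_full h hW ha hbx hax hb htb
  obtain ⟨y, hy, hyt⟩ : ∃ y ∈ two D a b, y ∉ nbr D t := by
    by_contra hc
    push Not at hc
    refine hn ⟨nbr_swap hb hbx.1, ht.1, Set.eq_of_subset_of_ncard_le (fun y hy => ⟨hy.1, hc y hy⟩) ?_
      (Set.toFinite _)⟩
    exact (two_ncard h ha ht.1 ha (nbr_swap hb hbx.1)).le
  have hne : y ≠ t := fun e => htb (e ▸ hy)
  have hnc : ¬ Commute t y := fun c => hyt ⟨hy.1.1, hne, c⟩
  have hyx := common_le h hW ha hbx hax hy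
  have h1 := ((common_full h hW ha hbx hax hb hy).conj_two h ht).conj_two h hyx
  rwa [inv_eq h ht.1.1, inv_eq h hy.1.1, Spor.braid_of_not h.cls.1 ht.1.1 hy.1.1 hnc,
    show y * (y * t * y) * y = (y * y) * t * (y * y) by simp only [mul_assoc],
    Spor.mul_self_of_order_two (h.cls.1.1 y hy.1.1), one_mul, mul_one] at h1

theorem centre_not_full (hb : b ∈ D) (hx : x ∈ D) : ¬ Full D a x b := fun hf => by
  obtain ⟨t, ht, hnf⟩ := exists_not_full h hW ha hx hax
  apply hnf
  by_cases hcl : Cl D a b t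
  · exact fun t' ht' => hf t' (hcl.trans ht')
  · exact full_of_not_twin h hW ha hbx hax hb ht hcl

/-- members not commuting with the centre are twins of it -/
theorem twin_of_not_commute (hb : b ∈ D) (hx : x ∈ D) {t : G} (ht : t ∈ two D a x) (htb : ¬ Commute b t) :
    Cl D a b t := by
  by_contra hn
  have hbT := b_mem h hW ha hbx hax hb
  have hf := (full_of_not_twin h hW ha hbx hax hb ht hn).conj_two h hbT
  have hdd := Spor.mul_self_of_order_two (h.cls.1.1 t ht.1.1)
  rw [inv_eq h hb, Spor.braid_of_not h.cls.1 hb ht.1.1 htb] at hf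
  have h1 := hf.conj_two h ht
  rw [inv_eq h ht.1.1, show t * (t * b * t) * t = (t * t) * b * (t * t) by simp only [mul_assoc], hdd,
    one_mul, mul_one] at h1
  exact centre_not_full h hW ha hbx hax hb hx h1

end Centre

/-- there are no commuting triangles -/
theorem no_triangle [Finite G] (h : Hyp D) (hW : HasTwins D) {a b : G} (ha : a ∈ D) (hb : b ∈ nbr D a) :
    two D a b = ∅ := by
  rw [Set.eq_empty_iff_forall_notMem]
  intro y hy
  obtain ⟨x, hbx, hxa⟩ := hW b hb.1 a (nbr_swap ha hb)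
  have hax := hbx.not_commute hxa.symm
  have hx := hbx.2.1.1
  obtain ⟨y', hcl, hne⟩ := hW a ha y hy.1
  have hyy := hcl.not_commute hne.symm
  have hyx := common_le h hW ha hbx hax hy
  have hy'x := common_full h hW ha hbx hax hb.1 hy y' hcl
  have hxT : x ∈ two D y y' := ⟨nbr_swap hx hyx.2, nbr_swap hx hy'x.2⟩
  have h1 := twin_of_not_commute h hW hy.1.1 hcl hyy ha hcl.2.1.1 hxT hax
  refine centre_not_full h hW ha hbx hax hb.1 hx fun b' hb' => ⟨hb'.2.1, ?_⟩
  have h2 : y ∈ two D a b' := hb'.2.2 ▸ hy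
  have h3 : b' ∈ two D y a := ⟨nbr_swap hb'.2.1.1 h2.2, hb'.2.1⟩
  rw [h1.2.2] at h3
  exact h3.2

/-- a closed set of pairwise non-commuting members has three-power size -/
theorem ncard_pow [Finite G] (h : Hyp D) {X : Set G} (hXD : X ⊆ D) (hX : ∀ u ∈ X, ∀ v ∈ X, u * v * u ∈ X)
    (h1 : ∀ u ∈ X, ∀ v ∈ X, Commute u v → u = v) (hne : X.Nonempty) : ∃ j, X.ncard = 3 ^ j := by
  haveI : Fact (Nat.Prime 3) := ⟨Nat.prime_three⟩
  obtain ⟨P, hP, hprod, -⟩ := Spor.local_width_one h.cls.1 hXD hX h1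
  obtain ⟨e, he⟩ := hne
  set K := P ⊓ Subgroup.closure X with hK
  have hstab : ∀ g ∈ Subgroup.closure X, ∀ u ∈ X, g * u * g⁻¹ ∈ X ∧ g⁻¹ * u * g⁻¹⁻¹ ∈ X := by
    intro g hg
    induction hg using Subgroup.closure_induction with
    | mem w hw =>
      intro u hu
      rw [inv_eq h (hXD hw), inv_eq h (hXD hw)]
      exact ⟨hX w hw u hu, hX w hw u hu⟩
    | one => intro u hu; simpa using hu
    | mul p q _ _ hp hq =>
      intro u hu
      refine ⟨?_, ?_⟩
      · rw [show p * q * u * (p * q)⁻¹ = p * (q * u * q⁻¹) * p⁻¹ by group]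
        exact (hp _ (hq u hu).1).1
      · rw [show (p * q)⁻¹ * u * (p * q)⁻¹⁻¹ = q⁻¹ * (p⁻¹ * u * p⁻¹⁻¹) * q⁻¹⁻¹ by group]
        exact (hq _ (hp u hu).2).2
    | inv p _ hp =>
      intro u hu
      refine ⟨(hp u hu).2, ?_⟩
      rw [inv_inv]
      exact (hp u hu).1
  have himg : (fun g => g * e * g⁻¹) '' (K : Set G) = X := by
    ext v
    constructor
    · rintro ⟨g, hg, rfl⟩
      exact (hstab g hg.2 e he).1
    · intro hv
      refine ⟨e * v, ⟨hprod e he v hv, mul_mem (Subgroup.subset_closure he) (Subgroup.subset_closure hv)⟩, ?_⟩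
      by_cases hev : e = v
      · subst hev; group
      show e * v * e * (e * v)⁻¹ = v
      have hb := Spor.braid_of_not h.cls.1 (hXD he) (hXD hv) fun c => hev (h1 e he v hv c)
      have hee := Spor.mul_self_of_order_two (h.cls.1.1 e (hXD he))
      have hvv := Spor.mul_self_of_order_two (h.cls.1.1 v (hXD hv))
      rw [hb, mul_inv_rev, inv_eq h (hXD he), inv_eq h (hXD hv)]
      calc v * e * v * (v * e) = v * e * (v * v) * e := by simp only [mul_assoc]
        _ = v := by rw [hvv, mul_one, mul_assoc, hee, mul_one]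
  have hd : X.ncard ∣ Nat.card K := by
    rw [← himg, Spor.conj_image_ncard]
    exact Subgroup.relIndex_dvd_card _ _
  obtain ⟨n, hn⟩ := IsPGroup.iff_card.1 (hP.to_le (inf_le_left : K ≤ P))
  obtain ⟨j, -, hj⟩ := (Nat.dvd_prime_pow Nat.prime_three).1 (hn ▸ hd)
  exact ⟨j, hj⟩

/-- every member has three neighbours -/
theorem nbr_three [Finite G] (h : Hyp D) (hW : HasTwins D) {a : G} (ha : a ∈ D) : (nbr D a).ncard = 3 := by
  classical
  have hG := Spor.class_isGroup h.cls
  have hnc : ∀ {u : G}, u ∈ D → ∀ v ∈ nbr D u, ∀ w ∈ nbr D u, Commute v w → v = w := by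
    intro u hu v hv w hw hc
    by_contra hne
    have h1 : w ∈ two D u v := ⟨hw, hw.1, Ne.symm hne, hc⟩
    rw [no_triangle h hW hu hv] at h1
    exact h1
  obtain ⟨p, hp, q, hq, hne, hpq⟩ := h.width
  have hnon : ∀ {u : G}, u ∈ D → (nbr D u).Nonempty := fun {u} hu => by
    refine Set.nonempty_of_ncard_ne_zero ?_
    rw [nbr_ncard h.cls hu hp]
    exact fun e => ((Set.ncard_eq_zero (Set.toFinite _)).1 e).subset (⟨hq, hne.symm, hpq⟩ : q ∈ nbr D p)
  obtain ⟨e, he⟩ := hnon ha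
  obtain ⟨f, hcl, hfe⟩ := hW a ha e he
  obtain ⟨x, hx, hax⟩ := Spor.exists_braid h.cls h.prim.2.1 ha
  obtain ⟨k, hk⟩ : ∃ k, k = (nbr D a).ncard := ⟨_, rfl⟩
  obtain ⟨μ, hμ⟩ : ∃ μ, μ = (two D a x).ncard := ⟨_, rfl⟩
  have hclosed : ∀ u ∈ nbr D a, ∀ v ∈ nbr D a, u * v * u ∈ nbr D a := fun u hu v hv => by
    have := (nbr_conj hG.2.1 u).2 hv
    rwa [fix_of_commute hu.2.2.symm, inv_eq h hu.1] at this
  obtain ⟨m, hm⟩ := ncard_pow h (fun u hu => hu.1) hclosed (hnc ha) ⟨e, he⟩
  obtain ⟨j, hj⟩ := ncard_pow h (X := two D a x) (fun u hu => hu.1.1)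
    (fun u hu v hv => by have := two_closed h hu hv; rwa [inv_eq h hu.1.1] at this)
    (fun u hu v hv hc => hnc ha u hu.1 v hv.1 hc) (by
      obtain ⟨d, hd, hdx⟩ := h.exists_common ha hx hax
      exact ⟨d, hd, hd.1, fun e' => hax (e' ▸ hd.2.2), hdx.symm⟩)
  have hjm : j < m := by
    rw [← Nat.pow_lt_pow_iff_right (by norm_num : 1 < 3), ← hm, ← hj]
    refine Set.ncard_lt_ncard ⟨Set.inter_subset_left, fun hs => hax ?_⟩ (Set.toFinite _)
    rw [h.eq_of_nbr_subset ha hx fun u hu => (hs hu).2]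
  have hk3 : 3 ≤ k := by
    rw [hk, hm]
    calc 3 = 3 ^ 1 := by norm_num
      _ ≤ 3 ^ m := Nat.pow_le_pow_right (by norm_num) (by omega)
  have hμ1 : 1 ≤ μ := by rw [hμ, hj]; exact Nat.one_le_pow _ _ (by norm_num)
  have hμk : μ ≤ k := by rw [hμ, hj, hk, hm]; exact Nat.pow_le_pow_right (by norm_num) hjm.le
  haveI : Fintype D := Fintype.ofFinite _
  let A : Matrix D D ℝ := Matrix.of fun u v => if (v : G) ∈ nbr D u then 1 else 0
  have hsym : ∀ u v : D, (v : G) ∈ nbr D u ↔ (u : G) ∈ nbr D v :=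
    fun u v => ⟨nbr_swap u.2, nbr_swap v.2⟩
  have hcard : ∀ S : Set G, S ⊆ D → ∑ v : D, (if (v : G) ∈ S then (1 : ℝ) else 0) = (S.ncard : ℝ) := by
    intro S hS
    rw [Finset.sum_boole, Nat.cast_inj, ← Set.ncard_coe_finset,
      ← Set.ncard_image_of_injective _ Subtype.val_injective]
    congr 1
    ext z
    constructor
    · rintro ⟨v, hv, rfl⟩; simpa using hv
    · intro hz; exact ⟨⟨z, hS hz⟩, by simpa using hz, rfl⟩
  have hreg : ∀ u : D, ∑ v : D, A u v = (k : ℝ) := fun u => by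
    simp only [A, Matrix.of_apply]
    rw [hcard _ fun z hz => hz.1, hk, nbr_ncard h.cls u.2 ha]
  have hsq : A * A = ((k : ℝ) - μ) • (1 : Matrix D D ℝ) - (μ : ℝ) • A + (μ : ℝ) • Matrix.of fun _ _ => 1 := by
    ext u w
    rw [Matrix.mul_apply]
    have hs : ∑ v : D, A u v * A v w = ((two D (u : G) w).ncard : ℝ) := by
      rw [← hcard _ fun z hz => hz.1.1]
      refine Finset.sum_congr rfl fun v _ => ?_
      simp only [A, Matrix.of_apply, two, Set.mem_inter_iff, hsym v w]
      split_ifs <;> simp_all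
    rw [hs]
    by_cases huw : u = w
    · subst huw
      have : (u : G) ∉ nbr D u := fun h' => h'.2.1 rfl
      simp [A, two, this, hk, nbr_ncard h.cls u.2 ha]
    by_cases hadj : (w : G) ∈ nbr D u
    · simp [A, hadj, huw, no_triangle h hW u.2 hadj]
    · have hnc' : ¬ Commute (u : G) w := fun c => hadj ⟨w.2, fun e => huw (Subtype.ext e.symm), c⟩
      obtain ⟨g, hga, hgx⟩ := pair_outside h ha hx hax u.2 w.2 hnc'
      have : (two D (u : G) w).ncard = μ := by
        rw [← hga, ← hgx, two_conj hG.2.1, hμ,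
          Set.ncard_image_of_injective _ fun u v huv => by simpa using huv]
      simp [A, hadj, huw, this]
  have hsquare := TriangleFree.disc_square A (Matrix.of fun _ _ => 1) k μ hk3 hμ1 hμk (fun _ _ => rfl)
    (fun u => by simp [A, show (u : G) ∉ nbr D u from fun h' => h'.2.1 rfl])
    (by
      ext u w
      simp [Matrix.mul_apply, hreg])
    (by
      ext u w
      simp only [Matrix.mul_apply, Matrix.of_apply, one_mul, Matrix.smul_apply, smul_eq_mul, mul_one]
      rw [← hreg w]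
      refine Finset.sum_congr rfl fun v _ => ?_
      simp only [A, Matrix.of_apply, hsym v w]) hsq ⟨⟨a, ha⟩⟩
  rw [hk, hμ, hm, hj] at hsquare
  rw [hm, TriangleFree.eq_one hjm hsquare, pow_one]

/-- the symmetric group of degree five -/
theorem iso_five [Finite G] (h : Hyp D) (hW : HasTwins D) : Nonempty (G ≃* Equiv.Perm (Fin 5)) := by
  have hG := Spor.class_isGroup h.cls
  have hloc : ∀ d ∈ D, Nonempty (↥(Subgroup.closure (Classical.ThreeTransCubic.nbr D d)) ≃* Equiv.Perm (Fin 3)) := by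
    intro d hd
    change Nonempty (↥(Subgroup.closure (nbr D d)) ≃* _)
    obtain ⟨e, he⟩ : (nbr D d).Nonempty :=
      Set.nonempty_of_ncard_ne_zero (by rw [nbr_three h hW hd]; norm_num)
    obtain ⟨f, hcl, hfe⟩ := hW d hd e he
    have hf := hcl.2.1
    have hnc := hcl.not_commute hfe.symm
    have hee := Spor.mul_self_of_order_two (h.cls.1.1 e he.1)
    have hff := Spor.mul_self_of_order_two (h.cls.1.1 f hf.1)
    have hB : Spor.PairGen.Braid e f := ⟨hee, hff, Spor.braid_of_not h.cls.1 he.1 hf.1 hnc, hnc⟩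
    have hg : e * f * e ∈ nbr D d := by
      have := (nbr_conj hG.2.1 e).2 hf
      rwa [fix_of_commute he.2.2.symm, inv_eq h he.1] at this
    have h1 : e * f * e ≠ e := fun E => hnc (by
      have : e * f = 1 := mul_right_cancel (b := e) (by rw [one_mul]; exact E)
      rw [mul_eq_one_iff_eq_inv, inv_eq h hf.1] at this
      rw [this])
    have h2 : e * f * e ≠ f := fun E => hnc (by
      show e * f = f * e
      calc e * f = e * f * e * e := by rw [mul_assoc, hee, mul_one]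
        _ = f * e := by rw [E])
    have hset : ({e, f, e * f * e} : Set G) = nbr D d :=
      Set.eq_of_subset_of_ncard_le (by
        intro z hz
        simp only [Set.mem_insert_iff, Set.mem_singleton_iff] at hz
        rcases hz with rfl | rfl | rfl
        · exact he
        · exact hf
        · exact hg) (by rw [nbr_three h hW hd, Set.ncard_eq_three.2 ⟨e, f, e * f * e, hfe.symm, h1.symm, h2.symm, rfl⟩])
        (Set.toFinite _)
    have hcl' : Subgroup.closure (nbr D d) = Subgroup.closure ({e, f} : Set G) := by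
      refine le_antisymm ((Subgroup.closure_le _).2 ?_) (Subgroup.closure_mono ?_)
      · rw [← hset]
        intro z hz
        simp only [Set.mem_insert_iff, Set.mem_singleton_iff] at hz
        have hE : e ∈ Subgroup.closure ({e, f} : Set G) := Subgroup.subset_closure (by simp)
        have hF : f ∈ Subgroup.closure ({e, f} : Set G) := Subgroup.subset_closure (by simp)
        rcases hz with rfl | rfl | rfl
        · exact hE
        · exact hF
        · exact mul_mem (mul_mem hE hF) hE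
      · rintro z (rfl | rfl)
        · exact he
        · exact hf
    exact Spor.PairGen.equiv_perm hB _ hcl'
  obtain ⟨d, hd, -⟩ := h.width
  obtain ⟨a, ha⟩ : (nbr D d).Nonempty := Set.nonempty_of_ncard_ne_zero (by rw [nbr_three h hW hd]; norm_num)
  obtain ⟨b, hcl, hba⟩ := hW d hd a ha
  obtain ⟨a', ha', hn⟩ : ∃ a', a' ∈ nbr D a ∧ a' ∉ nbr D b := Set.not_subset.1 fun hs =>
    hba (h.eq_of_nbr_subset ha.1 hcl.2.1.1 hs).symm
  obtain ⟨iso⟩ := Classical.ThreeTransCubic.case_five ⟨h.cls.1, hG.2.1, hloc⟩ hd ha hcl.2.1 hba.symm ha' hn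
  exact ⟨(Subgroup.topEquiv.symm.trans (MulEquiv.subgroupCongr hG.2.2.symm)).trans iso⟩

/-- conjugates under an odd normal subgroup of the local group are twins -/
theorem hasTwins_of_oddCore [Finite G] (h : Hyp D) {x : G} (hx : x ∈ D)
    (hne : ¬ Cfsg.oddCore ↥(Subgroup.closure (nbr D x)) ≤ Subgroup.center ↥(Subgroup.closure (nbr D x))) :
    HasTwins D := by
  set H := Subgroup.closure (nbr D x) with hH
  set O := Cfsg.oddCore ↥H with hO
  haveI hOn : O.Normal := by rw [hO]; infer_instance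
  have hodd : Odd (Nat.card O) := Char.card_oddCore_odd ↥H
  have hkill : ∀ z : G, (∃ w : ↥H, w ∈ O ∧ (w : G) = z) → z * z = 1 → z = 1 := by
    rintro z ⟨w, hw, rfl⟩ hz
    have h2 : orderOf (⟨w, hw⟩ : O) ∣ 2 := orderOf_dvd_of_pow_eq_one (Subtype.ext (Subtype.ext (by rw [pow_two]; exact hz)))
    have h1 := Nat.dvd_gcd h2 (orderOf_dvd_natCard (⟨w, hw⟩ : O))
    rw [Nat.coprime_two_left.2 hodd, Nat.dvd_one, orderOf_eq_one_iff] at h1
    exact congrArg (fun o : O => ((o : ↥H) : G)) h1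
  obtain ⟨o, hoO, hoZ⟩ := SetLike.not_le_iff_exists.1 hne
  obtain ⟨e, he, hne'⟩ : ∃ e ∈ nbr D x, (o : G) * e * (o : G)⁻¹ ≠ e := by
    by_contra hc
    push Not at hc
    refine hoZ (Subgroup.mem_center_iff.2 fun w => Subtype.ext ?_)
    have hcl : H ≤ Subgroup.centralizer ({(o : G)} : Set G) := (Subgroup.closure_le _).2 fun e he =>
      Subgroup.mem_centralizer_singleton_iff.2 (mul_inv_eq_iff_eq_mul.1 (hc e he)).symm
    exact Subgroup.mem_centralizer_singleton_iff.1 (hcl w.2)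
  have hG := Spor.class_isGroup h.cls
  set f := (o : G) * e * (o : G)⁻¹ with hf
  have hox : Commute (o : G) x := Subgroup.mem_centralizer_singleton_iff.1 (Hyp.closure_nbr_le x o.2)
  have hfn : f ∈ nbr D x := by
    have := (nbr_conj hG.2.1 (o : G)).2 he
    rwa [fix_of_commute hox] at this
  have heH : e ∈ H := Subgroup.subset_closure he
  have hfH : f ∈ H := Subgroup.subset_closure hfn
  have hef : (⟨e, heH⟩ * ⟨f, hfH⟩ : ↥H) ∈ O := by
    have h1 := mul_mem (hOn.conj_mem o hoO ⟨e, heH⟩) (inv_mem hoO)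
    convert h1 using 1
    apply Subtype.ext
    show e * f = e * o * e⁻¹ * (o : G)⁻¹
    rw [inv_eq h he.1, hf]
    simp only [mul_assoc]
  have key : ∀ u v : G, ∀ (hu : u ∈ nbr D x) (hv : v ∈ nbr D x),
      (⟨u, Subgroup.subset_closure hu⟩ * ⟨v, Subgroup.subset_closure hv⟩ : ↥H) ∈ O → u ≠ v →
      two D x u ⊆ two D x v := by
    intro u v hu hv huv hne y hy
    have huu := Spor.mul_self_of_order_two (h.cls.1.1 u hu.1)
    have hvv := Spor.mul_self_of_order_two (h.cls.1.1 v hv.1)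
    have hncuv : ¬ Commute u v := fun c => hne (by
      have := hkill (u * v) ⟨_, huv, rfl⟩ (by rw [c.symm.mul_mul_mul_comm, huu, hvv, one_mul])
      rwa [mul_eq_one_iff_eq_inv, inv_eq h hv.1] at this)
    refine ⟨hy.1, hy.1.1, fun e' => hncuv (e' ▸ hy.2.2.2 : Commute u v), ?_⟩
    by_contra hyv
    have hyy := Spor.mul_self_of_order_two (h.cls.1.1 y hy.1.1)
    have hyH : y ∈ H := Subgroup.subset_closure hy.1
    have h1 := mul_mem (inv_mem huv) (hOn.conj_mem _ huv ⟨y, hyH⟩)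
    have hyu : u * y = y * u := hy.2.2.2.eq
    have h2 : ∃ w : ↥H, w ∈ O ∧ (w : G) = y * v := by
      refine ⟨_, h1, ?_⟩
      show (u * v)⁻¹ * (y * (u * v) * y⁻¹) = y * v
      rw [mul_inv_rev, inv_eq h hu.1, inv_eq h hv.1, inv_eq h hy.1.1]
      calc v * u * (y * (u * v) * y) = v * (u * (y * u)) * v * y := by simp only [mul_assoc]
        _ = v * (u * (u * y)) * v * y := by rw [← hyu]
        _ = v * y * v * y := by rw [← mul_assoc u u, huu, one_mul]
        _ = y * v * y * y := by rw [Spor.braid_of_not h.cls.1 hv.1 hy.1.1 fun c => hyv c]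
        _ = y * v := by rw [mul_assoc, hyy, mul_one]
    obtain ⟨w, hwO, hw⟩ := h2
    refine hy.2.2.1 ?_
    have := hkill (u * y) ⟨⟨u, Subgroup.subset_closure hu⟩ * ⟨v, Subgroup.subset_closure hv⟩ * w⁻¹,
      mul_mem huv (inv_mem hwO), by
        show u * v * (w : G)⁻¹ = u * y
        rw [hw, mul_inv_rev, inv_eq h hv.1, inv_eq h hy.1.1, mul_assoc, ← mul_assoc v v, hvv, one_mul]⟩
      (by rw [hy.2.2.2.symm.mul_mul_mul_comm, huu, hyy, one_mul])
    rw [mul_eq_one_iff_eq_inv, inv_eq h hy.1.1] at this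
    exact this.symm
  have hfe : (⟨f, hfH⟩ * ⟨e, heH⟩ : ↥H) ∈ O := by
    have := inv_mem hef
    rwa [mul_inv_rev, show (⟨e, heH⟩ : ↥H)⁻¹ = ⟨e, heH⟩ from Subtype.ext (inv_eq h he.1),
      show (⟨f, hfH⟩ : ↥H)⁻¹ = ⟨f, hfH⟩ from Subtype.ext (inv_eq h hfn.1)] at this
  have hcl : Cl D x e f := ⟨he, hfn, subset_antisymm (key e f he hfn hef hne'.symm) (key f e hfn he hfe hne')⟩
  intro a ha b hb
  obtain ⟨g, hga, hgb⟩ := h.pair_transitive hx he ha hb
  refine ⟨g * f * g⁻¹, hga ▸ hgb ▸ hcl.conj hG.2.1 g, fun E => hne' ?_⟩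
  rw [← hgb] at E
  exact mul_left_cancel (mul_right_cancel E)

end Cfsg.Agent.Fischer.Twins
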