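import Cfsg.Agent.Lib.Spor.ThreeConnected

/-!
Fischer's transitivity lemmas for a class `D` of 3-transpositions whose derived group is perfect:
the members commuting with `a` form one class of the subgroup they generate, and the centralizer
of `a` is transitive on the members not commuting with `a`.
-/

set_option autoImplicit false

namespace Cfsg.Agent.Fischer

variable {G : Type*} [Group G] {D : Set G}

/-- the other members commuting with `a` -/
def nbr (D : Set G) (a : G) : Set G := {y | y ∈ D ∧ y ≠ a ∧ Commute a y}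

theorem nbr_conj (hconj : ∀ g : G, ∀ d ∈ D, g * d * g⁻¹ ∈ D) (g : G) {a y : G} :
    g * y * g⁻¹ ∈ nbr D (g * a * g⁻¹) ↔ y ∈ nbr D a := by
  have hD : g * y * g⁻¹ ∈ D ↔ y ∈ D := by
    refine ⟨fun h => ?_, hconj g y⟩
    have := hconj g⁻¹ _ h
    rwa [show g⁻¹ * (g * y * g⁻¹) * g⁻¹⁻¹ = y by group] at this
  simp only [nbr, Set.mem_setOf_eq, hD, ne_eq, Commute.conj_iff, mul_left_inj, mul_right_inj]

theorem nbr_ncard (hD : Cfsg.IsThreeTranspositionClass D) {a b : G} (ha : a ∈ D) (hb : b ∈ D) :
    (nbr D a).ncard = (nbr D b).ncard := by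
  obtain ⟨g, rfl⟩ := Spor.class_conj hD ha hb
  have hconj := (Spor.class_isGroup hD).2.1
  have him : nbr D (g * a * g⁻¹) = (fun y => g * y * g⁻¹) '' nbr D a := by
    ext y
    constructor
    · intro hy
      refine ⟨g⁻¹ * y * g, (nbr_conj hconj g).1 ?_, by group⟩
      rwa [show g * (g⁻¹ * y * g) * g⁻¹ = y by group]
    · rintro ⟨y, hy, rfl⟩; exact (nbr_conj hconj g).2 hy
  rw [him, Set.ncard_image_of_injective _ fun x y h => by simpa using h]

/-- a group whose derived group is perfect acts primitively on `D` -/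
theorem primitive [Finite G] (hD : Cfsg.IsThreeTranspositionClass D)
    (hD2 : ∃ a ∈ D, ∃ b ∈ D, a ≠ b) (h2 : Cfsg.pCore 2 G ≤ Subgroup.center G)
    (h3 : Cfsg.pCore 3 G ≤ Subgroup.center G) (hperf : ⁅commutator G, commutator G⁆ = commutator G) :
    Cfsg.IsPrimitiveUnderConj D ∧ ∃ a ∈ D, ∃ b ∈ D, a ≠ b ∧ Commute a b := by
  haveI : Fact (Nat.Prime 3) := ⟨Nat.prime_three⟩
  have hG := Spor.class_isGroup hD
  constructor
  · obtain ⟨L, hLn, hL, hF⟩ := Spor.exists_qs hD hD2 h2 h3
    haveI := hLn
    refine Spor.primitive_of_index hD hD2 h2 h3 hL hF ?_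
    obtain ⟨a, ha, -, -, -⟩ := hD2
    have hGL : commutator G ≤ L := by
      by_cases haL : a ∈ L
      · have : L = ⊤ := by
          rw [eq_top_iff, ← hG.2.2, Subgroup.closure_le]
          intro e he
          obtain ⟨g, rfl⟩ := Spor.class_conj hD ha he
          exact hLn.conj_mem a haL g
        rw [this]; exact le_top
      set π := QuotientGroup.mk' L with hπ
      have hne : ∀ e ∈ D, π e ≠ 1 := by
        intro e he h
        obtain ⟨g, rfl⟩ := Spor.class_conj hD he ha
        exact haL (hLn.conj_mem e ((QuotientGroup.eq_one_iff _).1 h) g)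
      have hπs : Function.Surjective π := QuotientGroup.mk'_surjective L
      have hQ : Cfsg.IsThreeTranspositionGroup (π '' D) := by
        refine ⟨⟨?_, ?_⟩, ?_, ?_⟩
        · rintro _ ⟨e, he, rfl⟩
          refine orderOf_eq_prime ?_ (hne e he)
          rw [sq, ← map_mul, Spor.mul_self_of_order_two (hD.1.1 e he), map_one]
        · rintro _ ⟨e, he, rfl⟩ _ ⟨f, hf, rfl⟩
          refine (hD.1.2 e he f hf).imp ?_ ?_ <;>
            exact fun h => by rw [← map_mul, ← map_pow, h, map_one]
        · intro q _ he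
          obtain ⟨e, he, rfl⟩ := he
          obtain ⟨g, rfl⟩ := hπs q
          exact ⟨g * e * g⁻¹, hG.2.1 g e he, by simp⟩
        · rw [← MonoidHom.map_closure, hG.2.2, Subgroup.map_top_of_surjective _ hπs]
      have h1 : ∀ x ∈ π '' D, ∀ y ∈ π '' D, Commute x y → x = y := by
        rintro _ ⟨e, he, rfl⟩ _ ⟨f, hf, rfl⟩ hc
        have : e * f * e⁻¹ * f⁻¹ ∈ L := by
          rw [← QuotientGroup.eq_one_iff (N := L)]
          show π (e * f * e⁻¹ * f⁻¹) = 1
          rw [map_mul, map_mul, map_mul, map_inv, map_inv, hc.eq]; group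
        exact (QuotientGroup.eq).2 (Spor.width_one_mod hD hL he hf this)
      have htop := Spor.width_one_generate hQ (Set.mem_image_of_mem π ha) h1
      haveI := Solv.pCore_normal (G := G ⧸ L) 3
      have hcl : commutator (G ⧸ L) ≤ Cfsg.pCore 3 (G ⧸ L) := by
        refine Subgroup.Normal.quotient_commutative_iff_commutator_le.1 ⟨⟨fun x y => ?_⟩⟩
        have hgen : ∀ x : (G ⧸ L) ⧸ Cfsg.pCore 3 (G ⧸ L),
            x ∈ Subgroup.zpowers (QuotientGroup.mk' (Cfsg.pCore 3 (G ⧸ L)) (π a)) := by
          intro x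
          obtain ⟨x, rfl⟩ := QuotientGroup.mk'_surjective _ x
          have hx : x ∈ Subgroup.zpowers (π a) ⊔ Cfsg.pCore 3 (G ⧸ L) := htop ▸ Subgroup.mem_top x
          rw [Subgroup.mem_sup_of_normal_right] at hx
          obtain ⟨_, ⟨k, rfl⟩, n, hn, rfl⟩ := hx
          refine ⟨k, ?_⟩
          simp [(QuotientGroup.eq_one_iff n).2 hn]
        obtain ⟨i, hi⟩ := hgen x
        obtain ⟨j, hj⟩ := hgen y
        rw [← hi, ← hj]
        exact ((Commute.refl _).zpow_zpow i j).eq
      have hP : ⁅commutator (G ⧸ L), commutator (G ⧸ L)⁆ = commutator (G ⧸ L) := by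
        have hm : (commutator G).map π = commutator (G ⧸ L) := by
          rw [commutator_def, commutator_def, Subgroup.map_commutator,
            Subgroup.map_top_of_surjective _ hπs]
        rw [← hm, ← Subgroup.map_commutator, hperf]
      have hb := Spor.perfect_solvable_eq_bot hP
        (Spor.pgroup_solvable ((Solv.pCore_isPGroup (G := G ⧸ L) 3).to_le hcl))
      intro x hx
      have : π x ∈ commutator (G ⧸ L) := by
        rw [show commutator (G ⧸ L) = (commutator G).map π by
          rw [commutator_def, commutator_def, Subgroup.map_commutator,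
            Subgroup.map_top_of_surjective _ hπs]]
        exact ⟨x, hx, rfl⟩
      rw [hb, Subgroup.mem_bot] at this
      exact (QuotientGroup.eq_one_iff x).1 this
    have htop : Subgroup.zpowers a ⊔ L = ⊤ := by
      rw [eq_top_iff, ← hG.2.2, Subgroup.closure_le]
      intro e he
      obtain ⟨g, rfl⟩ := Spor.class_conj hD ha he
      rw [SetLike.mem_coe, show g * a * g⁻¹ = g * a * g⁻¹ * a⁻¹ * a by group]
      refine mul_mem (Subgroup.mem_sup_right (hGL ?_)) (Subgroup.mem_sup_left (Subgroup.mem_zpowers a))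
      rw [commutator_def]
      exact Subgroup.commutator_mem_commutator (Subgroup.mem_top g) (Subgroup.mem_top a)
    have h1 : L.index = L.relIndex (Subgroup.zpowers a) := by
      rw [← Subgroup.relIndex_sup_right, htop, Subgroup.relIndex_top_right]
    rw [h1]
    exact (Nat.le_of_dvd (Nat.card_pos) (Subgroup.relIndex_dvd_card ..)).trans
      (le_of_eq ((Nat.card_zpowers a).trans (hD.1.1 a ha)))
  · by_contra hno
    push Not at hno
    have h1 : ∀ a ∈ D, ∀ b ∈ D, Commute a b → a = b := fun a ha b hb hc => by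
      by_contra hne; exact hno a ha b hb hne hc
    obtain ⟨a, ha, b, hb, hne⟩ := hD2
    have hz := Subgroup.mem_center_iff.1 (h3 (Spor.width_one_products hG h1 ha hb)) a
    refine hne (h1 a ha b hb ?_)
    have haa := Spor.mul_self_of_order_two (hD.1.1 a ha)
    show a * b = b * a
    calc a * b = (a * b * a) * a := by rw [mul_assoc, haa, mul_one]
      _ = (a * (a * b)) * a := by rw [← hz]
      _ = b * a := by rw [← mul_assoc, haa, one_mul]

/-- `G` acts primitively on `D` and some two members commute -/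
structure Hyp (D : Set G) : Prop where
  cls : Cfsg.IsThreeTranspositionClass D
  prim : Cfsg.IsPrimitiveUnderConj D
  width : ∃ a ∈ D, ∃ b ∈ D, a ≠ b ∧ Commute a b

namespace Hyp

theorem conj_mem (h : Hyp D) (g : G) {d : G} (hd : d ∈ D) : g * d * g⁻¹ ∈ D :=
  (Spor.class_isGroup h.cls).2.1 g d hd

theorem sameV_eq (h : Hyp D) {a b : G} (ha : a ∈ D) (hb : b ∈ D) (hab : Spor.SameV D a b) : a = b := by
  have hG := Spor.class_isGroup h.cls
  rcases Spor.relation_dichotomy hG h.prim (Spor.SameV D) (fun _ _ _ _ => Iff.rfl)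
      (fun _ _ _ _ e => e.symm) (fun _ _ _ _ _ _ e e' => e.trans e')
      (fun g _ _ _ _ e => e.conj hG.2.1 g) with e | e
  · exact e a ha b hb hab
  · obtain ⟨x, hx, hax⟩ := Spor.exists_braid h.cls h.prim.2.1 ha
    exact absurd ((e a ha x hx).commute ha) hax

theorem sameW_eq (h : Hyp D) {a b : G} (ha : a ∈ D) (hb : b ∈ D) (hab : Spor.SameW D a b) : a = b := by
  have hG := Spor.class_isGroup h.cls
  rcases Spor.relation_dichotomy hG h.prim (Spor.SameW D) (fun x _ => Spor.SameW.refl D x)
      (fun _ _ _ _ e => e.symm) (fun _ _ _ _ _ _ e e' => e.trans e')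
      (fun g _ _ _ _ e => e.conj hG.2.1 g) with e | e
  · exact e a ha b hb hab
  · obtain ⟨x, hx, y, hy, hne, hc⟩ := h.width
    exact absurd hc ((e x hx y hy).not_commute hy hne)

theorem eq_of_nbr_subset [Finite G] (h : Hyp D) {a b : G} (ha : a ∈ D) (hb : b ∈ D)
    (hs : nbr D a ⊆ nbr D b) : a = b := by
  have he : nbr D a = nbr D b :=
    Set.eq_of_subset_of_ncard_le hs (nbr_ncard h.cls hb ha).le (Set.toFinite _)
  refine h.sameW_eq ha hb fun y hy => ⟨fun hh => ?_, fun hh => ?_⟩
  · exact (he ▸ (show y ∈ nbr D a from ⟨hy, hh⟩) : y ∈ nbr D b).2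
  · exact (he.symm ▸ (show y ∈ nbr D b from ⟨hy, hh⟩) : y ∈ nbr D a).2

/-- some member commutes with `d` and not with `a` -/
theorem exists_sep [Finite G] (h : Hyp D) {a d : G} (ha : a ∈ D) (hd : d ∈ nbr D a) :
    ∃ w ∈ D, ¬ Commute a w ∧ w ≠ d ∧ Commute d w := by
  by_contra hno
  push Not at hno
  have hsub : insert d (nbr D d) ⊆ insert a (nbr D a) := by
    rintro y (rfl | hy)
    · exact Or.inr hd
    · by_cases hay : y = a
      · exact Or.inl hay
      · refine Or.inr ⟨hy.1, hay, ?_⟩
        by_contra hc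
        exact hno y hy.1 hc hy.2.1 hy.2.2
  have hcard : ∀ x ∈ D, (insert x (nbr D x)).ncard = (nbr D x).ncard + 1 := fun x _ =>
    Set.ncard_insert_of_notMem (fun hx => hx.2.1 rfl) (Set.toFinite _)
  have he : insert d (nbr D d) = insert a (nbr D a) :=
    Set.eq_of_subset_of_ncard_le hsub
      (by rw [hcard a ha, hcard d hd.1, nbr_ncard h.cls ha hd.1]) (Set.toFinite _)
  have key : ∀ x ∈ D, ∀ y ∈ D, Commute x y → y ∈ insert x (nbr D x) := fun x _ y hy hc =>
    (em (y = x)).imp id fun hne => ⟨hy, hne, hc⟩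
  have back : ∀ x y : G, y ∈ insert x (nbr D x) → Commute x y := by
    rintro x y (rfl | hy)
    · exact Commute.refl _
    · exact hy.2.2
  refine hd.2.1 (h.sameV_eq hd.1 ha fun e he' => ⟨fun hc => ?_, fun hc => ?_⟩)
  · exact back a e (he ▸ key d hd.1 e he' hc)
  · exact back d e (he.symm ▸ key a ha e he' hc)

/-- every member not commuting with `a` fails to commute with a member of each set `Q` of
neighbours of `a` whose members commute with all other neighbours -/
theorem exists_join [Finite G] (h : Hyp D) {a w : G} (ha : a ∈ D) (hw : w ∈ D) (haw : ¬ Commute a w)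
    {Q : Set G} (hQ : Q ⊆ nbr D a) (hQne : Q.Nonempty)
    (hsplit : ∀ y ∈ nbr D a, y ∈ Q ∨ ∀ q ∈ Q, Commute y q) : ∃ q ∈ Q, ¬ Commute w q := by
  by_contra hno
  push Not at hno
  have hG := Spor.class_isGroup h.cls
  set S := Q ∪ {y | y ∈ D ∧ ∀ q ∈ Q, Commute y q} with hS
  set K := Subgroup.closure S with hK
  have hKD : Cfsg.IsDSubgroup D K := le_antisymm ((Subgroup.closure_le _).2 fun x hx => hx.2)
    ((Subgroup.closure_le _).2 fun x hx => Subgroup.subset_closure
      ⟨hx.elim (fun hq => (hQ hq).1) (fun hq => hq.1), Subgroup.subset_closure hx⟩)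
  have hle : Subgroup.closure {y : G | y ∈ D ∧ Commute a y} ≤ K := by
    refine Subgroup.closure_mono fun y hy => ?_
    by_cases hya : y = a
    · exact Or.inr ⟨hy.1, fun q hq => hya ▸ (hQ hq).2.2⟩
    · exact (hsplit y ⟨hy.1, hya, hy.2⟩).imp id fun hh => ⟨hy.1, hh⟩
  have hwK : w ∈ K := Subgroup.subset_closure (Or.inr ⟨hw, hno⟩)
  rcases (Spor.maximal_dSubgroup hG h.prim h.width ha).2 K hKD hle with e | e
  · have hC : Subgroup.closure {y : G | y ∈ D ∧ Commute a y} ≤ Subgroup.centralizer ({a} : Set G) :=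
      (Subgroup.closure_le _).2 fun y hy => Subgroup.mem_centralizer_singleton_iff.2 hy.2.symm
    exact haw (Subgroup.mem_centralizer_singleton_iff.1 (hC (e ▸ hwK))).symm
  · obtain ⟨q, hq⟩ := hQne
    have hnorm : K ≤ Subgroup.normalizer (Subgroup.closure Q : Set G) := by
      refine (Subgroup.closure_le _).2 ?_
      rintro x (hx | hx)
      · exact Subgroup.le_normalizer (Subgroup.subset_closure hx)
      · exact Subgroup.centralizer_le_normalizer _ (Subgroup.mem_centralizer_iff.2 fun z hz => by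
          induction hz using Subgroup.closure_induction with
          | mem z hz => exact (hx.2 z hz).eq.symm
          | one => simp
          | mul p r _ _ hp hr => exact Commute.mul_left hp hr
          | inv p _ hp => exact Commute.inv_left hp)
    have hn : (Subgroup.closure Q).Normal :=
      Subgroup.normalizer_eq_top_iff.1 (top_le_iff.1 (e ▸ hnorm))
    have hall : Subgroup.closure Q = ⊤ := by
      rw [eq_top_iff, ← hG.2.2, Subgroup.closure_le]
      intro y hy
      obtain ⟨g, rfl⟩ := Spor.class_conj h.cls (hQ hq).1 hy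
      exact hn.conj_mem q (Subgroup.subset_closure hq) g
    obtain ⟨x, hx, hax⟩ := Spor.exists_braid h.cls h.prim.2.1 ha
    have hC : Subgroup.closure Q ≤ Subgroup.centralizer ({a} : Set G) :=
      (Subgroup.closure_le _).2 fun y hy => Subgroup.mem_centralizer_singleton_iff.2 (hQ hy).2.2.symm
    exact hax (Subgroup.mem_centralizer_singleton_iff.1 (hC (hall ▸ Subgroup.mem_top x))).symm

/-- adjacency inside the neighbourhood of `a` -/
def Step (D : Set G) (a x y : G) : Prop := x ∈ nbr D a ∧ y ∈ nbr D a ∧ ¬ Commute x y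

/-- the classes of the neighbourhood of `a` -/
def Conn (D : Set G) (a : G) : G → G → Prop := Relation.ReflTransGen (Step D a)

theorem conn_symm {a x y : G} (hxy : Conn D a x y) : Conn D a y x := by
  induction hxy with
  | refl => exact Relation.ReflTransGen.refl
  | tail _ hpq ih => exact Relation.ReflTransGen.head ⟨hpq.2.1, hpq.1, fun c => hpq.2.2 c.symm⟩ ih

theorem conn_conj (h : Hyp D) (g : G) {a x y : G} (hxy : Conn D a x y) :
    Conn D (g * a * g⁻¹) (g * x * g⁻¹) (g * y * g⁻¹) := by
  have hconj := (Spor.class_isGroup h.cls).2.1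
  induction hxy with
  | refl => exact Relation.ReflTransGen.refl
  | tail _ hpq ih =>
    exact ih.tail ⟨(nbr_conj hconj g).2 hpq.1, (nbr_conj hconj g).2 hpq.2.1,
      fun c => hpq.2.2 ((Commute.conj_iff g).1 c)⟩

/-- the neighbourhood of every member is connected under non-commuting -/
theorem nbr_conn [Finite G] (h : Hyp D) : ∀ {a x y : G}, a ∈ D → x ∈ nbr D a → y ∈ nbr D a → Conn D a x y := by
  suffices H : ∀ n, ∀ a x : G, a ∈ D → x ∈ nbr D a → {y | y ∈ nbr D a ∧ Conn D a x y}.ncard = n →
      ∀ y ∈ nbr D a, Conn D a x y from fun {a x y} ha hx hy => H _ a x ha hx rfl y hy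
  intro n
  induction n using Nat.strong_induction_on with
  | _ n ih =>
    intro a d ha hd hn q hq
    by_contra hdq
    -- every class of the neighbourhood of `a` other than that of `d` joins `a` at `d`
    have key : ∀ q ∈ nbr D a, ¬ Conn D a d q → Conn D d a q := by
      intro q hq hdq
      obtain ⟨w, hw, haw, hwd, hdw⟩ := h.exists_sep ha hd
      have hQd : ∀ z ∈ nbr D a, Conn D a q z → z ∈ nbr D d := by
        intro z hz hqz
        refine ⟨hz.1, fun e => hdq (conn_symm (e ▸ hqz)), ?_⟩
        by_contra hc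
        exact hdq ((Relation.ReflTransGen.single ⟨hd, hz, hc⟩).trans (conn_symm hqz))
      obtain ⟨q', ⟨hq', hqq'⟩, hwq⟩ := h.exists_join ha hw haw
        (Q := {z | z ∈ nbr D a ∧ Conn D a q z}) (fun z hz => hz.1) ⟨q, hq, Relation.ReflTransGen.refl⟩
        (fun y hy => by
          by_cases hyq : Conn D a q y
          · exact Or.inl ⟨hy, hyq⟩
          · refine Or.inr fun z hz => ?_
            by_contra hc
            exact hyq (hz.2.tail ⟨hz.1, hy, fun c => hc c.symm⟩))
      have hda : a ∈ nbr D d := ⟨ha, fun e => hd.2.1 e.symm, hd.2.2.symm⟩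
      have hwn : w ∈ nbr D d := ⟨hw, hwd, hdw⟩
      have h1 : Conn D d a q' := ((Relation.ReflTransGen.single ⟨hda, hwn, haw⟩).tail
        ⟨hwn, hQd q' hq' hqq', hwq⟩)
      have h2 : ∀ z, Conn D a q z → Conn D d q z := fun z hz => by
        induction hz with
        | refl => exact Relation.ReflTransGen.refl
        | tail hp hpq ihp =>
          exact ihp.tail ⟨hQd _ hpq.1 hp, hQd _ hpq.2.1 (hp.tail hpq), hpq.2.2⟩
      exact h1.trans (conn_symm (h2 q' hqq'))
    -- the neighbourhood of `d` is disconnected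
    obtain ⟨s, hs, has⟩ : ∃ s ∈ nbr D d, ¬ Conn D d a s := by
      by_contra hall
      push Not at hall
      obtain ⟨g, hg⟩ := Spor.class_conj h.cls hd.1 ha
      have hconj := (Spor.class_isGroup h.cls).2.1
      have hto : ∀ y ∈ nbr D a, Conn D a (g * a * g⁻¹) y := by
        intro y hy
        have hy' : g⁻¹ * y * g ∈ nbr D d := by
          rw [← nbr_conj hconj g, hg, show g * (g⁻¹ * y * g) * g⁻¹ = y by group]; exact hy
        have := h.conn_conj g (hall _ hy')
        rwa [hg, show g * (g⁻¹ * y * g) * g⁻¹ = y by group] at this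
      exact hdq ((conn_symm (hto d hd)).trans (hto q hq))
    have hsub : ∀ t, t ∈ nbr D d → Conn D d s t → t ∈ nbr D a ∧ Conn D a d t := by
      intro t ht hst
      have hat : ¬ Conn D d a t := fun e => has (e.trans (conn_symm hst))
      have hta : t ≠ a := fun e => hat (e ▸ Relation.ReflTransGen.refl)
      have hc : Commute a t := by
        by_contra hc
        exact hat (Relation.ReflTransGen.single ⟨⟨ha, fun e => hd.2.1 e.symm, hd.2.2.symm⟩, ht, hc⟩)
      refine ⟨⟨ht.1, hta, hc⟩, ?_⟩
      by_contra hdt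
      exact hat (key t ⟨ht.1, hta, hc⟩ hdt)
    have hlt : {t | t ∈ nbr D d ∧ Conn D d s t}.ncard < n := by
      rw [← hn]
      refine Set.ncard_lt_ncard (Set.ssubset_iff_exists.2 ⟨fun t ht => hsub t ht.1 ht.2,
        d, ⟨hd, Relation.ReflTransGen.refl⟩, fun hdd => hdd.1.2.1 rfl⟩) (Set.toFinite _)
    exact has (conn_symm (ih _ hlt d s hd.1 hs rfl a ⟨ha, fun e => hd.2.1 e.symm, hd.2.2.symm⟩))

/-- the members commuting with `a` form one class of the subgroup they generate -/
theorem nbr_transitive [Finite G] (h : Hyp D) {a x y : G} (ha : a ∈ D) (hx : x ∈ nbr D a)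
    (hy : y ∈ nbr D a) : ∃ g ∈ Subgroup.closure (nbr D a), g * x * g⁻¹ = y := by
  have hxy := h.nbr_conn ha hx hy
  clear hy
  induction hxy with
  | refl => exact ⟨1, one_mem _, by simp⟩
  | @tail p q _ hpq ih =>
    obtain ⟨g, hg, hgx⟩ := ih
    refine ⟨p * q * g, mul_mem (mul_mem (Subgroup.subset_closure hpq.1)
      (Subgroup.subset_closure hpq.2.1)) hg, ?_⟩
    have hbr := (Spor.commute_or_braid h.cls.1 hpq.1.1 hpq.2.1.1).resolve_left hpq.2.2
    have hp := Spor.inv_of_order_two (h.cls.1.1 p hpq.1.1)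
    have hq := Spor.inv_of_order_two (h.cls.1.1 q hpq.2.1.1)
    have hpp := Spor.mul_self_of_order_two (h.cls.1.1 p hpq.1.1)
    rw [show p * q * g * x * (p * q * g)⁻¹ = p * q * (g * x * g⁻¹) * q⁻¹ * p⁻¹ by group, hgx, hp, hq,
      show p * q * p * q * p = p * (q * p * q) * p by simp only [mul_assoc], ← hbr]
    simp only [← mul_assoc, hpp, one_mul]
    rw [mul_assoc, hpp, mul_one]

theorem closure_nbr_le (a : G) : Subgroup.closure (nbr D a) ≤ Subgroup.centralizer ({a} : Set G) :=
  (Subgroup.closure_le _).2 fun y hy => Subgroup.mem_centralizer_singleton_iff.2 hy.2.2.symm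

/-- conjugate under the centralizer of `a` -/
def Orb (a e f : G) : Prop := ∃ g : G, Commute g a ∧ g * e * g⁻¹ = f

theorem orb_symm {a e f : G} (h : Orb a e f) : Orb a f e := by
  obtain ⟨g, hg, rfl⟩ := h
  exact ⟨g⁻¹, hg.inv_left, by group⟩

theorem orb_trans {a e f k : G} (h : Orb a e f) (h' : Orb a f k) : Orb a e k := by
  obtain ⟨g, hg, rfl⟩ := h
  obtain ⟨g', hg', rfl⟩ := h'
  exact ⟨g' * g, hg'.mul_left hg, by group⟩

theorem conj_commute {a g y : G} (hg : Commute g a) : Commute a (g * y * g⁻¹) ↔ Commute a y := by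
  conv_lhs => arg 1; rw [show a = g * a * g⁻¹ by rw [hg.eq, mul_inv_cancel_right]]
  exact Commute.conj_iff g

/-- commuting members outside the neighbourhood are in one orbit -/
theorem orb_of_commute (h : Hyp D) {a e f : G} (ha : a ∈ D) (he : e ∈ D) (hf : f ∈ D)
    (hae : ¬ Commute a e) (haf : ¬ Commute a f) (hef : Commute e f) : Orb a e f := by
  have hee := Spor.mul_self_of_order_two (h.cls.1.1 e he)
  have hff := Spor.mul_self_of_order_two (h.cls.1.1 f hf)
  have haa := Spor.mul_self_of_order_two (h.cls.1.1 a ha)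
  have hei := Spor.inv_of_order_two (h.cls.1.1 e he)
  have hfi := Spor.inv_of_order_two (h.cls.1.1 f hf)
  have hai := Spor.inv_of_order_two (h.cls.1.1 a ha)
  have hb := (Spor.commute_or_braid h.cls.1 ha he).resolve_left hae
  have hb' := (Spor.commute_or_braid h.cls.1 ha hf).resolve_left haf
  have hx := Spor.cross_commute h.cls.1 ha he hf hef hae haf
  refine ⟨a * (e * f * a * (e * f)), (Commute.refl a).mul_left hx.symm, ?_⟩
  set x := e * f * a * (e * f) with hxd
  have hefi : (e * f)⁻¹ = e * f := by rw [mul_inv_rev, hei, hfi, hef.eq]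
  have hxi : x⁻¹ = x := by
    rw [hxd]
    simp only [mul_inv_rev, hai, hei, hfi]
    rw [hef.symm.eq]
    simp only [mul_assoc]
  have key : x * e * x = f * a * f := by
    rw [hxd]
    calc e * f * a * (e * f) * e * (e * f * a * (e * f))
        = e * f * a * ((e * f) * e * (e * f)) * (a * (e * f)) := by simp only [mul_assoc]
      _ = e * f * a * e * (a * (e * f)) := by
          congr 2
          calc e * f * e * (e * f) = e * (f * (e * e) * f) := by simp only [mul_assoc]
            _ = e := by rw [hee, mul_one, hff, mul_one]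
      _ = e * f * (a * e * a) * (e * f) := by simp only [mul_assoc]
      _ = e * f * e * a * ((e * e) * f) := by rw [hb]; simp only [mul_assoc]
      _ = (e * (f * e)) * a * f := by rw [hee, one_mul]; simp only [mul_assoc]
      _ = f * a * f := by rw [← hef.eq, ← mul_assoc, hee, one_mul]
  rw [mul_inv_rev, hai, hxi, show a * x * e * (x * a) = a * (x * e * x) * a by simp only [mul_assoc],
    key, ← hb']
  simp only [← mul_assoc, haa, one_mul]
  rw [mul_assoc, haa, mul_one]

theorem line (h : Hyp D) {e f : G} (he : e ∈ D) (hf : f ∈ D) (hef : ¬ Commute e f) :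
    e * f * e = f * e * f ∧ e * f * e * e * (e * f * e) = f ∧ f * (e * f * e) * f = e := by
  have hb := (Spor.commute_or_braid h.cls.1 he hf).resolve_left hef
  have hee := Spor.mul_self_of_order_two (h.cls.1.1 e he)
  have hff := Spor.mul_self_of_order_two (h.cls.1.1 f hf)
  refine ⟨hb, ?_, ?_⟩
  · calc e * f * e * e * (e * f * e) = e * f * (e * e) * (e * f * e) := by simp only [mul_assoc]
      _ = e * f * (f * e * f) := by rw [hee, mul_one, hb]
      _ = e * (f * f) * e * f := by simp only [mul_assoc]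
      _ = f := by rw [hff, mul_one, hee, one_mul]
  · calc f * (e * f * e) * f = f * (f * e * f) * f := by rw [hb]
      _ = (f * f) * e * (f * f) := by simp only [mul_assoc]
      _ = e := by rw [hff, one_mul, mul_one]

/-- the third member of a line through two orbits does not commute with `a` -/
theorem third_outside (h : Hyp D) {a e f : G} (he : e ∈ D) (hf : f ∈ D)
    (hef : ¬ Commute e f) (hno : ¬ Orb a e f) : e * f * e ∈ D ∧ ¬ Commute a (e * f * e) := by
  have hm : e * f * e ∈ D := by
    have := h.conj_mem e hf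
    rwa [Spor.inv_of_order_two (h.cls.1.1 e he)] at this
  refine ⟨hm, fun hc => hno ⟨e * f * e, hc.symm, ?_⟩⟩
  rw [Spor.inv_of_order_two (h.cls.1.1 _ hm)]
  exact (h.line he hf hef).2.1

theorem join_third (h : Hyp D) {a d e f : G} (ha : a ∈ D) (hd : d ∈ nbr D a) (he : e ∈ D) (hf : f ∈ D)
    (hae : ¬ Commute a e) (haf : ¬ Commute a f) (hno : ¬ Orb a e f) (hde : ¬ Commute d e) :
    ¬ Commute d (e * f * e) := by
  intro hg
  have hef : ¬ Commute e f := fun c => hno (h.orb_of_commute ha he hf hae haf c)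
  obtain ⟨hm, -⟩ := h.third_outside he hf hef hno
  have hei := Spor.inv_of_order_two (h.cls.1.1 e he)
  have hdi := Spor.inv_of_order_two (h.cls.1.1 d hd.1)
  have hneg : ¬ Commute e (e * f * e) := fun c => hef (by
    have c' := (Commute.conj_iff e).2 c
    have hee := Spor.mul_self_of_order_two (h.cls.1.1 e he)
    rwa [mul_inv_cancel_right, hei, show e * (e * f * e) * e = (e * e) * f * (e * e) by
      simp only [mul_assoc], hee, one_mul, mul_one] at c')
  have hc := Spor.cross_commute h.cls.1 he hd.1 hm hg (fun c => hde c.symm) hneg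
  have heq : d * (e * f * e) * e * (d * (e * f * e)) = d * f * d := by
    calc d * (e * f * e) * e * (d * (e * f * e))
        = d * (e * f * e) * e * ((e * f * e) * d) := by rw [hg.eq]
      _ = d * (e * f * e * e * (e * f * e)) * d := by simp only [mul_assoc]
      _ = d * f * d := by rw [(h.line he hf hef).2.1]
  rw [heq] at hc
  have hfd : Orb a f (d * f * d) := ⟨d, hd.2.2.symm, by rw [hdi]⟩
  have hdfd : d * f * d ∈ D := by
    have := h.conj_mem d hf
    rwa [hdi] at this
  have hadfd : ¬ Commute a (d * f * d) := fun c => haf (by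
    have := (conj_commute (y := f) hd.2.2.symm).1 (by rwa [hdi])
    exact this)
  exact hno (orb_trans (h.orb_of_commute ha he hdfd hae hadfd hc) (orb_symm hfd))

theorem third_orbit (h : Hyp D) {a d e f : G} (ha : a ∈ D) (hd : d ∈ nbr D a) (he : e ∈ D) (hf : f ∈ D)
    (hae : ¬ Commute a e) (haf : ¬ Commute a f) (hno : ¬ Orb a e f) (hde : Commute d e)
    (hdf : ¬ Commute d f) : Orb a f (e * f * e) := by
  have hef : ¬ Commute e f := fun c => hno (h.orb_of_commute ha he hf hae haf c)
  obtain ⟨hm, hag⟩ := h.third_outside he hf hef hno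
  by_contra hn
  have := h.join_third ha hd hf hm haf hag hn hdf
  rw [(h.line he hf hef).2.2] at this
  exact this hde

/-- the common neighbours of `a` and `e` -/
def com (D : Set G) (a e : G) : Set G := {d | d ∈ nbr D a ∧ Commute d e}

theorem com_comparable (h : Hyp D) {a e f : G} (ha : a ∈ D) (he : e ∈ D) (hf : f ∈ D)
    (hae : ¬ Commute a e) (haf : ¬ Commute a f) (hno : ¬ Orb a e f) :
    com D a e ⊆ com D a f ∨ com D a f ⊆ com D a e := by
  by_contra hcon
  rw [not_or, Set.not_subset, Set.not_subset] at hcon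
  obtain ⟨⟨d, ⟨hd, hde⟩, hdf⟩, d', ⟨hd', hd'f⟩, hd'e⟩ := hcon
  have h1 := h.third_orbit ha hd he hf hae haf hno hde fun c => hdf ⟨hd, c⟩
  have h2 := h.third_orbit ha hd' hf he haf hae (fun o => hno (orb_symm o)) hd'f
    fun c => hd'e ⟨hd', c⟩
  have hef : ¬ Commute e f := fun c => hno (h.orb_of_commute ha he hf hae haf c)
  rw [← (h.line he hf hef).1] at h2
  exact hno (orb_trans h2 (orb_symm h1))

/-- the commuting graph has diameter two -/
theorem exists_common [Finite G] (h : Hyp D) {a y : G} (ha : a ∈ D) (hy : y ∈ D) (hay : ¬ Commute a y) :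
    (com D a y).Nonempty := by
  have hconn := Spor.connected_of_primitive (Spor.class_isGroup h.cls) h.prim h.width
  obtain ⟨p⟩ := hconn.preconnected ⟨a, ha⟩ ⟨y, hy⟩
  suffices H : ∀ (u v : D), (Cfsg.commutingGraph D).Walk u v →
      ((u : G) = a ∨ (com D a u).Nonempty) → ((v : G) = a ∨ (com D a v).Nonempty) by
    rcases H _ _ p (Or.inl rfl) with e | e
    · exact absurd (e ▸ Commute.refl a) hay
    · exact e
  intro u v w
  induction w with
  | nil => exact id
  | @cons u z v hadj w ih =>
    intro hu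
    refine ih ?_
    rw [Cfsg.commutingGraph, SimpleGraph.fromRel_adj] at hadj
    have huz : Commute (u : G) z := hadj.2.elim id fun c => c.symm
    by_cases hza : (z : G) = a
    · exact Or.inl hza
    refine Or.inr ?_
    by_cases haz : Commute a (z : G)
    · exact ⟨z, ⟨z.2, hza, haz⟩, Commute.refl _⟩
    by_cases hau : Commute a (u : G)
    · exact ⟨u, ⟨u.2, fun e => haz (e ▸ huz), hau⟩, huz⟩
    rcases hu with e | ⟨d, hd, hdu⟩
    · exact absurd (e ▸ Commute.refl a) hau
    obtain ⟨g, hg, hgu⟩ := h.orb_of_commute ha u.2 z.2 hau haz huz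
    refine ⟨g * d * g⁻¹, ?_, hgu ▸ (Commute.conj_iff g).2 hdu⟩
    have := (nbr_conj (Spor.class_isGroup h.cls).2.1 g).2 hd
    rwa [hg.eq, mul_inv_cancel_right] at this

theorem com_conj (h : Hyp D) {a g e : G} (hg : Commute g a) :
    com D a (g * e * g⁻¹) = (fun d => g * d * g⁻¹) '' com D a e := by
  have hconj := (Spor.class_isGroup h.cls).2.1
  have hga : g * a * g⁻¹ = a := by rw [hg.eq, mul_inv_cancel_right]
  ext d
  constructor
  · rintro ⟨hd, hde⟩
    have hd' : d = g * (g⁻¹ * d * g) * g⁻¹ := by group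
    refine ⟨g⁻¹ * d * g, ⟨?_, ?_⟩, hd'.symm⟩
    · rwa [← nbr_conj hconj g, hga, ← hd']
    · rwa [← Commute.conj_iff g, ← hd']
  · rintro ⟨d, ⟨hd, hde⟩, rfl⟩
    refine ⟨?_, (Commute.conj_iff g).2 hde⟩
    have := (nbr_conj hconj g).2 hd
    rwa [hga] at this

/-- the centralizer of `a` is transitive on the members not commuting with `a` -/
theorem outside_transitive [Finite G] (h : Hyp D) {a e f : G} (ha : a ∈ D) (he : e ∈ D) (hf : f ∈ D)
    (hae : ¬ Commute a e) (haf : ¬ Commute a f) : Orb a e f := by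
  suffices H : ∀ e f : G, e ∈ D → f ∈ D → ¬ Commute a e → ¬ Commute a f → ¬ Orb a e f →
      (com D a e).ncard ≤ (com D a f).ncard → False by
    by_contra hno
    rcases le_total (com D a e).ncard (com D a f).ncard with hle | hle
    · exact H e f he hf hae haf hno hle
    · exact H f e hf he haf hae (fun o => hno (orb_symm o)) hle
  intro e f he hf hae haf hno hle
  obtain ⟨d, hd⟩ := h.exists_common ha he hae
  have hall : nbr D a ⊆ nbr D f := by
    intro y hy
    obtain ⟨g, hg, hgd⟩ := h.nbr_transitive ha hd.1 hy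
    have hga : Commute g a := Subgroup.mem_centralizer_singleton_iff.1 (closure_nbr_le a hg)
    have hno' : ¬ Orb a (g * e * g⁻¹) f := fun o => hno (orb_trans ⟨g, hga, rfl⟩ o)
    have hcard : (com D a (g * e * g⁻¹)).ncard ≤ (com D a f).ncard := by
      rw [h.com_conj hga, Set.ncard_image_of_injective _ fun u v huv => by simpa using huv]
      exact hle
    have hsub : com D a (g * e * g⁻¹) ⊆ com D a f := by
      rcases h.com_comparable ha (h.conj_mem g he) hf
        (fun c => hae ((conj_commute hga).1 c)) haf hno' with s | s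
      · exact s
      · exact (Set.eq_of_subset_of_ncard_le s hcard (Set.toFinite _)).ge
    have hyc : y ∈ com D a (g * e * g⁻¹) := by
      rw [h.com_conj hga]; exact ⟨d, hd, hgd⟩
    have := hsub hyc
    exact ⟨hy.1, fun e' => haf (e' ▸ hy.2.2), this.2.symm⟩
  exact haf (h.eq_of_nbr_subset ha hf hall ▸ Commute.refl a)

/-- transitivity on ordered commuting pairs -/
theorem pair_transitive [Finite G] (h : Hyp D) {a b c d : G} (ha : a ∈ D) (hb : b ∈ nbr D a) (hc : c ∈ D)
    (hd : d ∈ nbr D c) : ∃ g : G, g * a * g⁻¹ = c ∧ g * b * g⁻¹ = d := by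
  obtain ⟨g, hg⟩ := Spor.class_conj h.cls ha hc
  have hb' : g * b * g⁻¹ ∈ nbr D c := hg ▸ (nbr_conj (Spor.class_isGroup h.cls).2.1 g).2 hb
  obtain ⟨k, hk, hkb⟩ := h.nbr_transitive hc hb' hd
  have hkc : Commute k c := Subgroup.mem_centralizer_singleton_iff.1 (closure_nbr_le c hk)
  refine ⟨k * g, ?_, ?_⟩
  · rw [show k * g * a * (k * g)⁻¹ = k * (g * a * g⁻¹) * k⁻¹ by group, hg, hkc.eq, mul_inv_cancel_right]
  · rw [show k * g * b * (k * g)⁻¹ = k * (g * b * g⁻¹) * k⁻¹ by group, hkb]

end Hyp

/-- Fischer's hypothesis gives primitivity -/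
theorem hyp_of_no_solvable [Finite G] (hD : Cfsg.IsThreeTranspositionClass D)
    (hsol : ∀ N : Subgroup G, N.Normal → Group.IsSolvable ↥N → N = ⊥)
    (hperf : ⁅commutator G, commutator G⁆ = commutator G) : Hyp D := by
  have hcore : ∀ p : ℕ, p.Prime → Cfsg.pCore p G ≤ Subgroup.center G := fun p hp => by
    haveI := Fact.mk hp
    rw [hsol _ (Solv.pCore_normal p) (Spor.pgroup_solvable (Solv.pCore_isPGroup p))]
    exact bot_le
  have hD2 : ∃ a ∈ D, ∃ b ∈ D, a ≠ b := by
    by_contra hno
    push Not at hno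
    obtain ⟨d, hd, -⟩ := hD.2.1
    have htop : Subgroup.zpowers d = ⊤ := by
      rw [eq_top_iff, ← hD.2.2, Subgroup.closure_le]
      exact fun x hx => hno d hd x hx ▸ Subgroup.mem_zpowers d
    haveI : Fact (Nat.Prime 2) := ⟨Nat.prime_two⟩
    have h2 : IsPGroup 2 (⊤ : Subgroup G) :=
      IsPGroup.of_card (n := 1) (by rw [← htop, Nat.card_zpowers, hD.1.1 d hd, pow_one])
    have := hsol ⊤ inferInstance (Spor.pgroup_solvable h2)
    have hd1 : d ∈ (⊥ : Subgroup G) := this ▸ Subgroup.mem_top d
    have := hD.1.1 d hd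
    rw [Subgroup.mem_bot.1 hd1, orderOf_one] at this
    norm_num at this
  obtain ⟨hp, hw⟩ := primitive hD hD2 (hcore 2 Nat.prime_two) (hcore 3 Nat.prime_three) hperf
  exact ⟨hD, hp, hw⟩

end Cfsg.Agent.Fischer
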